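import Mathlib

set_option autoImplicit false

namespace Cfsg.Agent.Lib.Lead.CyclicMax

section

variable {G : Type*} [Group G] [Finite G]

/-- A generator of a cyclic subgroup of index `p` in a group of order `p ^ n`. -/
theorem exists_generator {p : ℕ} (hp : p.Prime) (n : ℕ) (hG : Nat.card G = p ^ n)
    (C : Subgroup G) (hC : IsCyclic C) (hCi : C.index = p) :
    ∃ a : G, C = Subgroup.zpowers a ∧ orderOf a * p = p ^ n := by
  obtain ⟨g, hg⟩ := hC.exists_generator
  have hCz : C = Subgroup.zpowers (g : G) := by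
    apply le_antisymm
    · intro y hy
      obtain ⟨k, hk⟩ := Subgroup.mem_zpowers_iff.1 (hg ⟨y, hy⟩)
      refine Subgroup.mem_zpowers_iff.2 ⟨k, ?_⟩
      have h1 := congrArg Subtype.val hk
      rwa [Subgroup.coe_zpow] at h1
    · rw [Subgroup.zpowers_le]; exact g.2
  refine ⟨g, hCz, ?_⟩
  have h1 := Subgroup.card_mul_index C
  rw [hCi, hG] at h1
  have h2 : Nat.card C = orderOf (g : G) := by
    rw [← Nat.card_zpowers]
    exact congrArg (fun H : Subgroup G => Nat.card H) hCz
  rw [← h2]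
  exact h1

theorem exists_nat_pow {a y : G} (h : y ∈ Subgroup.zpowers a) : ∃ k : ℕ, y = a ^ k := by
  obtain ⟨k, hk⟩ := (Submonoid.mem_powers_iff _ _).1 (mem_powers_iff_mem_zpowers.2 h)
  exact ⟨k, hk.symm⟩

omit [Finite G] in
theorem comm_of_center_index_dvd_prime {p : ℕ} (hp : p.Prime)
    (h : (Subgroup.center G).index ∣ p) : ∀ u v : G, u * v = v * u := by
  haveI : IsCyclic (G ⧸ Subgroup.center G) := by
    rcases (Nat.dvd_prime hp).1 h with h1 | h1
    · haveI : Subsingleton (G ⧸ Subgroup.center G) :=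
        (Nat.card_eq_one_iff_unique.1 (by rw [← Subgroup.index_eq_card]; exact h1)).1
      infer_instance
    · haveI : Fact p.Prime := ⟨hp⟩
      exact isCyclic_of_prime_card (p := p) (by rw [← Subgroup.index_eq_card]; exact h1)
  exact (isMulCommutative_of_isCyclic_quotient_center_self G).is_comm.comm

/-- If an element outside a cyclic subgroup `⟨a⟩` of prime index centralizes `a`, the group is
abelian. -/
theorem comm_of_conj_eq {p : ℕ} (hp : p.Prime) (a x : G)
    (hCi : (Subgroup.zpowers a).index = p) (hx : x ∉ Subgroup.zpowers a)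
    (hxa : x * a * x⁻¹ = a) : ∀ u v : G, u * v = v * u := by
  have hle : Subgroup.zpowers a ≤ Subgroup.centralizer ({a} : Set G) := by
    rw [Subgroup.zpowers_le, Subgroup.mem_centralizer_iff]
    intro y hy
    rw [Set.mem_singleton_iff.1 hy]
  have hxc : x ∈ Subgroup.centralizer ({a} : Set G) := by
    rw [Subgroup.mem_centralizer_iff]
    intro y hy
    rw [Set.mem_singleton_iff.1 hy]
    exact (mul_inv_eq_iff_eq_mul.1 hxa).symm
  have hdvd : (Subgroup.centralizer ({a} : Set G)).index ∣ p :=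
    hCi ▸ Subgroup.index_dvd_of_le hle
  have htop : Subgroup.centralizer ({a} : Set G) = ⊤ := by
    rcases (Nat.dvd_prime hp).1 hdvd with h1 | h1
    · exact Subgroup.index_eq_one.1 h1
    · exfalso
      apply hx
      have h2 : Subgroup.zpowers a = Subgroup.centralizer ({a} : Set G) := by
        apply Subgroup.eq_of_le_of_card_ge hle
        have h3 := Subgroup.card_mul_index (Subgroup.zpowers a)
        have h4 := Subgroup.card_mul_index (Subgroup.centralizer ({a} : Set G))
        rw [hCi] at h3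
        rw [h1] at h4
        have h5 : Nat.card (Subgroup.centralizer ({a} : Set G)) * p
            = Nat.card (Subgroup.zpowers a) * p := by rw [h3, h4]
        exact le_of_eq (Nat.eq_of_mul_eq_mul_right hp.pos h5)
      rw [h2]; exact hxc
  have hac : a ∈ Subgroup.center G := by
    rw [Subgroup.mem_center_iff]
    intro g
    have hg : g ∈ Subgroup.centralizer ({a} : Set G) := by rw [htop]; exact Subgroup.mem_top g
    exact (Subgroup.mem_centralizer_iff.1 hg a (Set.mem_singleton a)).symm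
  have hCcen : Subgroup.zpowers a ≤ Subgroup.center G := by
    rw [Subgroup.zpowers_le]; exact hac
  exact comm_of_center_index_dvd_prime hp (hCi ▸ Subgroup.index_dvd_of_le hCcen)

end

/-- Square roots of one modulo a power of two. -/
theorem sq_mod_cases (e k : ℕ) (he : 1 ≤ e) (h : k * k ≡ 1 [MOD 2 ^ (e + 1)]) :
    k ≡ 1 [MOD 2 ^ (e + 1)] ∨ k ≡ 2 ^ (e + 1) - 1 [MOD 2 ^ (e + 1)] ∨
      k ≡ 1 + 2 ^ e [MOD 2 ^ (e + 1)] ∨ k ≡ 2 ^ e - 1 [MOD 2 ^ (e + 1)] := by
  obtain ⟨f, rfl⟩ : ∃ f, e = f + 1 := ⟨e - 1, by omega⟩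
  have hodd : k % 2 = 1 := by
    have h2 : k * k ≡ 1 [MOD 2] := h.of_dvd (dvd_pow_self 2 (by omega))
    have h3 : (k * k) % 2 = 1 := h2
    rcases Nat.mod_two_eq_zero_or_one k with h0 | h1
    · rw [Nat.mul_mod, h0] at h3; omega
    · exact h1
  obtain ⟨u, rfl⟩ : ∃ u, k = 2 * u + 1 := ⟨k / 2, by omega⟩
  have hdvd : 2 ^ (f + 1 + 1) ∣ (2 * u + 1) * (2 * u + 1) - 1 :=
    (Nat.modEq_iff_dvd' (by nlinarith)).1 h.symm
  have h4 : (2 * u + 1) * (2 * u + 1) - 1 = 2 ^ 2 * (u * (u + 1)) := by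
    have : (2 * u + 1) * (2 * u + 1) = 2 ^ 2 * (u * (u + 1)) + 1 := by ring
    omega
  rw [h4, show f + 1 + 1 = 2 + f by omega, pow_add] at hdvd
  have hdvd' : 2 ^ f ∣ u * (u + 1) := Nat.dvd_of_mul_dvd_mul_left (by norm_num) hdvd
  have hN : (2 : ℕ) ^ (f + 1 + 1) = 2 * 2 ^ (f + 1) := by rw [pow_succ']
  have hN' : (2 : ℕ) ^ (f + 1) = 2 * 2 ^ f := by rw [pow_succ']
  have hpos : 0 < 2 ^ f := by positivity
  rcases Nat.even_or_odd u with hu | hu
  · have hcop : Nat.Coprime (2 ^ f) (u + 1) := by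
      apply Nat.Coprime.pow_left
      rw [Nat.coprime_two_left]
      exact hu.add_one
    obtain ⟨t, ht⟩ := hcop.dvd_of_dvd_mul_right hdvd'
    rcases Nat.even_or_odd t with ⟨s, hs⟩ | ⟨s, hs⟩
    · left
      have : 2 * u + 1 = 2 ^ (f + 1 + 1) * s + 1 := by rw [ht, hs, hN, hN']; ring
      rw [this]
      exact Nat.mul_add_mod _ _ _
    · right; right; left
      have : 2 * u + 1 = 2 ^ (f + 1 + 1) * s + (1 + 2 ^ (f + 1)) := by
        rw [ht, hs, hN, hN']; ring
      rw [this]
      exact Nat.mul_add_mod _ _ _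
  · have hcop : Nat.Coprime (2 ^ f) u := by
      apply Nat.Coprime.pow_left
      rw [Nat.coprime_two_left]
      exact hu
    obtain ⟨t, ht⟩ := hcop.dvd_of_dvd_mul_left hdvd'
    rcases Nat.even_or_odd t with ⟨s, hs⟩ | ⟨s, hs⟩
    · right; left
      have hs1 : 1 ≤ s := by
        by_contra hcon
        have : s = 0 := by omega
        rw [this] at hs
        rw [hs] at ht
        omega
      obtain ⟨s', rfl⟩ : ∃ s', s = s' + 1 := ⟨s - 1, by omega⟩
      have : 2 * u + 1 = 2 ^ (f + 1 + 1) * s' + (2 ^ (f + 1 + 1) - 1) := by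
        have h5 : 2 * (u + 1) = 2 ^ (f + 1 + 1) * s' + 2 ^ (f + 1 + 1) := by
          rw [ht, hs, hN, hN']; ring
        have h6 : 1 ≤ 2 ^ (f + 1 + 1) := Nat.one_le_two_pow
        omega
      rw [this]
      exact Nat.mul_add_mod _ _ _
    · right; right; right
      have : 2 * u + 1 = 2 ^ (f + 1 + 1) * s + (2 ^ (f + 1) - 1) := by
        have h5 : 2 * (u + 1) = 2 ^ (f + 1 + 1) * s + 2 ^ (f + 1) := by
          rw [ht, hs, hN, hN']; ring
        have h6 : 1 ≤ 2 ^ (f + 1) := Nat.one_le_two_pow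
        omega
      rw [this]
      exact Nat.mul_add_mod _ _ _

end Cfsg.Agent.Lib.Lead.CyclicMax
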