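import Cfsg.Agent.S0124
import Mathlib

set_option autoImplicit false

namespace Cfsg.Agent.Lib.Lead.Extraspecial

open scoped commutatorElement

/-- Common parametrization: two maps from the same set, multiplicative for the same operation,
the first surjective and with kernel relation finer than the second, give a homomorphism. -/
theorem hom_of_param {M : Type*} {G₁ : Type*} {G₂ : Type*} [Group G₁] [Group G₂]
    (op : M → M → M) (ψ₁ : M → G₁) (ψ₂ : M → G₂)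
    (hs : Function.Surjective ψ₁) (hwd : ∀ m m', ψ₁ m = ψ₁ m' → ψ₂ m = ψ₂ m')
    (h₁ : ∀ m m', ψ₁ (op m m') = ψ₁ m * ψ₁ m') (h₂ : ∀ m m', ψ₂ (op m m') = ψ₂ m * ψ₂ m') :
    ∃ F : G₁ →* G₂, ∀ m, F (ψ₁ m) = ψ₂ m := by
  refine ⟨MonoidHom.mk' (fun g => ψ₂ (Function.surjInv hs g)) ?_, ?_⟩
  · intro a b
    show ψ₂ (Function.surjInv hs (a * b)) =
      ψ₂ (Function.surjInv hs a) * ψ₂ (Function.surjInv hs b)
    rw [← h₂]
    apply hwd
    rw [h₁, Function.surjInv_eq hs, Function.surjInv_eq hs, Function.surjInv_eq hs]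
  · intro m
    show ψ₂ (Function.surjInv hs (ψ₁ m)) = ψ₂ m
    apply hwd
    rw [Function.surjInv_eq hs]

theorem arith1 (p i : ℕ) (hp : 2 ≤ p) : (p - 1) * ((p - 1) * i) = p * ((p - 2) * i) + i := by
  obtain ⟨r, rfl⟩ : ∃ r, p = r + 2 := ⟨p - 2, by omega⟩
  have e1 : r + 2 - 1 = r + 1 := by omega
  have e2 : r + 2 - 2 = r := by omega
  rw [e1, e2]; ring

section ClassTwo

variable {Q : Type*} [Group Q]

/-- In class two, the commutator is multiplicative in the first variable. -/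
theorem comm_mul_left (hc : ∀ g h k : Q, ⁅g, h⁆ * k = k * ⁅g, h⁆) (g h k : Q) :
    ⁅g * h, k⁆ = ⁅g, k⁆ * ⁅h, k⁆ := by
  have h1 : ⁅g * h, k⁆ = g * ⁅h, k⁆ * g⁻¹ * ⁅g, k⁆ := by
    simp only [commutatorElement_def]; group
  rw [h1, ← hc h k g, mul_inv_cancel_right, hc h k]

theorem comm_mul_right (hc : ∀ g h k : Q, ⁅g, h⁆ * k = k * ⁅g, h⁆) (k g h : Q) :
    ⁅k, g * h⁆ = ⁅k, g⁆ * ⁅k, h⁆ := by
  rw [← commutatorElement_inv (g * h) k, comm_mul_left hc, mul_inv_rev, commutatorElement_inv,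
    commutatorElement_inv, hc]

theorem comm_pow_left (hc : ∀ g h k : Q, ⁅g, h⁆ * k = k * ⁅g, h⁆) (g k : Q) (n : ℕ) :
    ⁅g ^ n, k⁆ = ⁅g, k⁆ ^ n := by
  induction n with
  | zero => simp
  | succ n ih => rw [pow_succ, comm_mul_left hc, ih, pow_succ]

theorem comm_pow_right (hc : ∀ g h k : Q, ⁅g, h⁆ * k = k * ⁅g, h⁆) (k g : Q) (n : ℕ) :
    ⁅k, g ^ n⁆ = ⁅k, g⁆ ^ n := by
  induction n with
  | zero => simp
  | succ n ih => rw [pow_succ, comm_mul_right hc, ih, pow_succ]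

end ClassTwo

/-- `Good p Q z`: `z` generates the centre of `Q`, has order `p`, and all commutators are powers
of `z`. -/
def Good (p : ℕ) (Q : Type*) [Group Q] (z : Q) : Prop :=
  z ≠ 1 ∧ z ^ p = 1 ∧ (∀ g : Q, z * g = g * z) ∧
    (∀ c : Q, (∀ g : Q, c * g = g * c) → ∃ k : ℕ, c = z ^ k) ∧
    (∀ g h : Q, ∃ k : ℕ, ⁅g, h⁆ = z ^ k)

section Decomp

variable {Q : Type*} [Group Q] {p : ℕ} [hp : Fact p.Prime] {z : Q}

theorem Good.central (hG : Good p Q z) (g h k : Q) : ⁅g, h⁆ * k = k * ⁅g, h⁆ := by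
  obtain ⟨j, hj⟩ := hG.2.2.2.2 g h
  rw [hj]
  exact ((Commute.pow_left (hG.2.2.1 k) j)).eq

theorem Good.orderOf (hG : Good p Q z) : orderOf z = p :=
  orderOf_eq_prime hG.2.1 hG.1

theorem Good.inv_eq (hG : Good p Q z) : z⁻¹ = z ^ (p - 1) := by
  have h1 : z ^ (p - 1) * z = 1 := by
    rw [← pow_succ, Nat.sub_add_cancel hp.out.pos, hG.2.1]
  exact inv_eq_of_mul_eq_one_left h1

theorem Good.inv_pow (hG : Good p Q z) (n : ℕ) : (z⁻¹) ^ n = z ^ ((p - 1) * n) := by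
  rw [hG.inv_eq, ← pow_mul]

variable {x y : Q}

/-- The centralizer of the pair. -/
def cen (x y : Q) : Subgroup Q := Subgroup.centralizer {x, y}

theorem mem_cen (c : Q) : c ∈ cen x y ↔ x * c = c * x ∧ y * c = c * y := by
  unfold cen
  rw [Subgroup.mem_centralizer_iff]
  constructor
  · intro h
    exact ⟨h x (by simp), h y (by simp)⟩
  · rintro ⟨h1, h2⟩ g hg
    rcases hg with rfl | rfl
    · exact h1
    · exact h2

theorem mem_cen_iff_comm (c : Q) : c ∈ cen x y ↔ ⁅c, x⁆ = 1 ∧ ⁅c, y⁆ = 1 := by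
  rw [mem_cen, commutatorElement_eq_one_iff_mul_comm, commutatorElement_eq_one_iff_mul_comm]
  constructor
  · rintro ⟨h1, h2⟩; exact ⟨h1.symm, h2.symm⟩
  · rintro ⟨h1, h2⟩; exact ⟨h1.symm, h2.symm⟩

theorem z_mem_cen (hG : Good p Q z) : z ∈ cen x y := by
  rw [mem_cen]
  exact ⟨(hG.2.2.1 x).symm, (hG.2.2.1 y).symm⟩

/-- Every element is `x ^ a * y ^ b * c` with `c` centralizing `x` and `y`. -/
theorem decomp_surj (hG : Good p Q z) (hxy : ⁅x, y⁆ = z) (g : Q) :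
    ∃ a b : ℕ, ∃ c ∈ cen x y, g = x ^ a * y ^ b * c := by
  have hc := hG.central
  obtain ⟨i, hi⟩ := hG.2.2.2.2 g x
  obtain ⟨j, hj⟩ := hG.2.2.2.2 g y
  have hyx : ⁅y, x⁆ = z⁻¹ := by rw [← hxy, commutatorElement_inv]
  refine ⟨j, (p - 1) * i, (x ^ j * y ^ ((p - 1) * i))⁻¹ * g, ?_, by group⟩
  rw [mem_cen_iff_comm]
  have hg : g = (x ^ j * y ^ ((p - 1) * i)) * ((x ^ j * y ^ ((p - 1) * i))⁻¹ * g) := by group
  constructor
  · have h1 : ⁅g, x⁆ = ⁅x ^ j * y ^ ((p - 1) * i), x⁆ *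
        ⁅(x ^ j * y ^ ((p - 1) * i))⁻¹ * g, x⁆ := by
      conv_lhs => rw [hg]
      exact comm_mul_left hc _ _ _
    rw [hi, comm_mul_left hc, comm_pow_left hc, comm_pow_left hc, commutatorElement_self, one_pow,
      one_mul, hyx, hG.inv_pow] at h1
    have h2 : z ^ ((p - 1) * ((p - 1) * i)) = z ^ i := by
      rw [arith1 p i hp.out.two_le, pow_add, pow_mul, hG.2.1, one_pow, one_mul]
    rw [h2] at h1
    exact mul_eq_left.mp h1.symm
  · have h1 : ⁅g, y⁆ = ⁅x ^ j * y ^ ((p - 1) * i), y⁆ *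
        ⁅(x ^ j * y ^ ((p - 1) * i))⁻¹ * g, y⁆ := by
      conv_lhs => rw [hg]
      exact comm_mul_left hc _ _ _
    rw [hj, comm_mul_left hc, comm_pow_left hc, comm_pow_left hc, commutatorElement_self, one_pow,
      mul_one, hxy] at h1
    exact (mul_eq_left.mp h1.symm)

/-- Uniqueness of the decomposition, at the level of the exponents of `z`. -/
theorem decomp_inj (hG : Good p Q z) (hxy : ⁅x, y⁆ = z) (a b a' b' : ℕ) (c c' : Q)
    (hc : c ∈ cen x y) (hc' : c' ∈ cen x y)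
    (h : x ^ a * y ^ b * c = x ^ a' * y ^ b' * c') : z ^ a = z ^ a' ∧ z ^ b = z ^ b' := by
  have hcen := hG.central
  have hyx : ⁅y, x⁆ = z⁻¹ := by rw [← hxy, commutatorElement_inv]
  have key1 : ∀ (a b : ℕ) (c : Q), c ∈ cen x y → ⁅x ^ a * y ^ b * c, y⁆ = z ^ a := by
    intro a b c hc
    rw [comm_mul_left hcen, comm_mul_left hcen, comm_pow_left hcen, comm_pow_left hcen,
      commutatorElement_self, one_pow, mul_one, hxy, ((mem_cen_iff_comm c).1 hc).2, mul_one]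
  have key2 : ∀ (a b : ℕ) (c : Q), c ∈ cen x y → ⁅x ^ a * y ^ b * c, x⁆ = (z⁻¹) ^ b := by
    intro a b c hc
    rw [comm_mul_left hcen, comm_mul_left hcen, comm_pow_left hcen, comm_pow_left hcen,
      commutatorElement_self, one_pow, one_mul, hyx, ((mem_cen_iff_comm c).1 hc).1, mul_one]
  constructor
  · rw [← key1 a b c hc, ← key1 a' b' c' hc', h]
  · have h2 : (z⁻¹) ^ b = (z⁻¹) ^ b' := by rw [← key2 a b c hc, ← key2 a' b' c' hc', h]
    rw [inv_pow, inv_pow, inv_inj] at h2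
    exact h2

/-- The product formula. -/
theorem decomp_mul (hG : Good p Q z) (hxy : ⁅x, y⁆ = z) (a b a' b' : ℕ) (c c' : Q)
    (hc : c ∈ cen x y) :
    (x ^ a * y ^ b * c) * (x ^ a' * y ^ b' * c') =
      x ^ (a + a') * y ^ (b + b') * (z ^ ((p - 1) * (b * a')) * c * c') := by
  have hcen := hG.central
  have hyx : ⁅y, x⁆ = z⁻¹ := by rw [← hxy, commutatorElement_inv]
  have hcx : c * x ^ a' = x ^ a' * c :=
    ((Commute.pow_right (show Commute c x from ((mem_cen c).1 hc).1.symm) a')).eq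
  have hcy : c * y ^ b' = y ^ b' * c :=
    ((Commute.pow_right (show Commute c y from ((mem_cen c).1 hc).2.symm) b')).eq
  have hw : ∀ g : Q, z ^ ((p - 1) * (b * a')) * g = g * z ^ ((p - 1) * (b * a')) :=
    fun g => ((Commute.pow_left (hG.2.2.1 g) _)).eq
  have hyx' : y ^ b * x ^ a' = z ^ ((p - 1) * (b * a')) * x ^ a' * y ^ b := by
    rw [Cfsg.Agent.S0124.comm_rel (y ^ b) (x ^ a'), comm_pow_left hcen, comm_pow_right hcen, hyx,
      ← pow_mul, hG.inv_pow, mul_comm a' b]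
  calc (x ^ a * y ^ b * c) * (x ^ a' * y ^ b' * c')
      = x ^ a * y ^ b * (c * x ^ a') * y ^ b' * c' := by group
    _ = x ^ a * y ^ b * (x ^ a' * c) * y ^ b' * c' := by rw [hcx]
    _ = x ^ a * (y ^ b * x ^ a') * (c * y ^ b') * c' := by group
    _ = x ^ a * (z ^ ((p - 1) * (b * a')) * x ^ a' * y ^ b) * (y ^ b' * c) * c' := by
      rw [hyx', hcy]
    _ = x ^ a * z ^ ((p - 1) * (b * a')) * (x ^ a' * y ^ b * y ^ b' * c * c') := by group
    _ = z ^ ((p - 1) * (b * a')) * (x ^ (a + a') * y ^ (b + b')) * (c * c') := by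
      rw [← hw (x ^ a), pow_add, pow_add]; group
    _ = x ^ (a + a') * y ^ (b + b') * (z ^ ((p - 1) * (b * a')) * c * c') := by
      rw [hw (x ^ (a + a') * y ^ (b + b'))]; group

/-- The centralizer of the pair is again `Good`. -/
theorem good_cen (hG : Good p Q z) (hxy : ⁅x, y⁆ = z) :
    Good p (cen x y) ⟨z, z_mem_cen hG⟩ := by
  refine ⟨?_, ?_, ?_, ?_, ?_⟩
  · intro h
    exact hG.1 (congrArg Subtype.val h)
  · exact Subtype.ext (by simpa using hG.2.1)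
  · intro g
    exact Subtype.ext (hG.2.2.1 g.1)
  · intro c hc
    have hcQ : ∀ g : Q, c.1 * g = g * c.1 := by
      intro g
      obtain ⟨a, b, c', hc', rfl⟩ := decomp_surj hG hxy g
      have h1 : Commute c.1 x := ((mem_cen c.1).1 c.2).1.symm
      have h2 : Commute c.1 y := ((mem_cen c.1).1 c.2).2.symm
      have h3 : Commute c.1 c' := congrArg Subtype.val (hc ⟨c', hc'⟩)
      exact (((h1.pow_right a).mul_right (h2.pow_right b)).mul_right h3).eq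
    obtain ⟨k, hk⟩ := hG.2.2.2.1 c.1 hcQ
    exact ⟨k, Subtype.ext (by simpa using hk)⟩
  · intro g h
    obtain ⟨k, hk⟩ := hG.2.2.2.2 g.1 h.1
    refine ⟨k, Subtype.ext ?_⟩
    have e : (⁅g, h⁆ : cen x y).1 = ⁅g.1, h.1⁆ := by simp [commutatorElement_def]
    rw [e, hk]; simp

/-- Order formula. -/
theorem card_eq [Finite Q] (hG : Good p Q z) (hxy : ⁅x, y⁆ = z) (hx : x ^ p = 1)
    (hy : y ^ p = 1) : Nat.card Q = p * p * Nat.card (cen x y) := by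
  have hzo := hG.orderOf
  have hbij : Function.Bijective
      (fun m : Fin p × Fin p × cen x y => x ^ (m.1 : ℕ) * y ^ (m.2.1 : ℕ) * m.2.2.1) := by
    constructor
    · rintro ⟨a, b, c⟩ ⟨a', b', c'⟩ h
      have h' : x ^ (a : ℕ) * y ^ (b : ℕ) * c.1 = x ^ (a' : ℕ) * y ^ (b' : ℕ) * c'.1 := h
      obtain ⟨h1, h2⟩ := decomp_inj hG hxy a b a' b' c.1 c'.1 c.2 c'.2 h'
      rw [pow_eq_pow_iff_modEq, hzo] at h1 h2
      have ha : (a : ℕ) = a' := Nat.ModEq.eq_of_lt_of_lt h1 a.2 a'.2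
      have hb : (b : ℕ) = b' := Nat.ModEq.eq_of_lt_of_lt h2 b.2 b'.2
      rw [ha, hb] at h'
      have hc : c.1 = c'.1 := mul_left_cancel h'
      exact Prod.ext (Fin.ext ha) (Prod.ext (Fin.ext hb) (Subtype.ext hc))
    · intro g
      obtain ⟨a, b, c, hc, rfl⟩ := decomp_surj hG hxy g
      have hpos : 0 < p := hp.out.pos
      refine ⟨(⟨a % p, Nat.mod_lt _ hpos⟩, ⟨b % p, Nat.mod_lt _ hpos⟩, ⟨c, hc⟩), ?_⟩
      show x ^ (a % p) * y ^ (b % p) * c = x ^ a * y ^ b * c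
      have e1 : x ^ (a % p) = x ^ a := by
        conv_rhs => rw [← Nat.mod_add_div a p, pow_add, pow_mul, hx, one_pow, mul_one]
      have e2 : y ^ (b % p) = y ^ b := by
        conv_rhs => rw [← Nat.mod_add_div b p, pow_add, pow_mul, hy, one_pow, mul_one]
      rw [e1, e2]
  rw [← Nat.card_congr (Equiv.ofBijective _ hbij), Nat.card_prod, Nat.card_prod, Nat.card_fin,
    mul_assoc]

end Decomp

section More

variable {Q : Type*} [Group Q] {p : ℕ} [hp : Fact p.Prime] {z : Q}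

/-- A `Good` group is abelian iff it has order `p`. -/
theorem card_of_abelian [Finite Q] (hG : Good p Q z) (hab : ∀ g h : Q, g * h = h * g) :
    Nat.card Q = p := by
  have h1 : (Subgroup.zpowers z : Subgroup Q) = ⊤ := by
    rw [eq_top_iff]
    intro g _
    obtain ⟨k, hk⟩ := hG.2.2.2.1 g (hab g)
    rw [hk]; exact Subgroup.pow_mem _ (Subgroup.mem_zpowers z) k
  rw [← Subgroup.card_top (G := Q), ← h1, Nat.card_zpowers, hG.orderOf]

theorem abelian_of_card [Finite Q] (hG : Good p Q z) (hc : Nat.card Q = p) (g h : Q) :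
    g * h = h * g := by
  have h1 : (Subgroup.zpowers z : Subgroup Q) = ⊤ := by
    apply Subgroup.eq_top_of_card_eq
    rw [Nat.card_zpowers, hG.orderOf, hc]
  have hg : g ∈ Subgroup.zpowers z := by rw [h1]; exact Subgroup.mem_top g
  obtain ⟨k, rfl⟩ := Subgroup.mem_zpowers_iff.1 hg
  exact ((Commute.zpow_left (hG.2.2.1 h) k)).eq

/-- In a nonabelian `Good` group there is a pair with commutator `z`. -/
theorem exists_pair (hG : Good p Q z) (hnab : ¬ ∀ g h : Q, g * h = h * g) :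
    ∃ x y : Q, ⁅x, y⁆ = z := by
  push Not at hnab
  obtain ⟨g, h, hgh⟩ := hnab
  obtain ⟨k, hk⟩ := hG.2.2.2.2 g h
  have hk1 : ⁅g, h⁆ ≠ 1 := by
    rw [Ne, commutatorElement_eq_one_iff_mul_comm]; exact hgh
  have hpk : ¬ p ∣ k := by
    rintro ⟨m, rfl⟩
    apply hk1
    rw [hk, pow_mul, hG.2.1, one_pow]
  have hcop : Nat.Coprime k p := ((Nat.Prime.coprime_iff_not_dvd hp.out).2 hpk).symm
  obtain ⟨m, -, hm⟩ := Nat.exists_mul_mod_eq_one_of_coprime hcop hp.out.one_lt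
  refine ⟨g, h ^ m, ?_⟩
  rw [comm_pow_right hG.central, hk, ← pow_mul, ← pow_mod_orderOf, hG.orderOf, hm, pow_one]

end More


theorem pow_eq_of_modEq {G : Type*} [Group G] {p : ℕ} (x : G) (hx : x ^ p = 1) (a a' : ℕ)
    (h : a ≡ a' [MOD p]) : x ^ a = x ^ a' :=
  pow_eq_pow_iff_modEq.2 (h.of_dvd (orderOf_dvd_of_pow_eq_one hx))

/-- The inductive step: an isomorphism of the centralizers of two pairs, compatible with the
central elements, extends to the whole groups. -/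
theorem step_iso {Q₁ : Type*} {Q₂ : Type*} [Group Q₁] [Group Q₂] [Finite Q₁] [Finite Q₂]
    {p : ℕ} [Fact p.Prime] {z₁ : Q₁} {z₂ : Q₂} (hG₁ : Good p Q₁ z₁) (hG₂ : Good p Q₂ z₂)
    (hcard : Nat.card Q₁ = Nat.card Q₂) {x₁ y₁ : Q₁} {x₂ y₂ : Q₂}
    (hxy₁ : ⁅x₁, y₁⁆ = z₁) (hxy₂ : ⁅x₂, y₂⁆ = z₂)
    (hx₁ : x₁ ^ p = 1) (hy₁ : y₁ ^ p = 1) (hx₂ : x₂ ^ p = 1) (hy₂ : y₂ ^ p = 1)
    (f : cen x₁ y₁ ≃* cen x₂ y₂) (hf : (f ⟨z₁, z_mem_cen hG₁⟩ : Q₂) = z₂) :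
    ∃ F : Q₁ ≃* Q₂, F z₁ = z₂ := by
  let ψ₁ : ℕ × ℕ × cen x₁ y₁ → Q₁ := fun m => x₁ ^ m.1 * y₁ ^ m.2.1 * m.2.2.1
  let ψ₂ : ℕ × ℕ × cen x₁ y₁ → Q₂ := fun m => x₂ ^ m.1 * y₂ ^ m.2.1 * (f m.2.2).1
  let op : ℕ × ℕ × cen x₁ y₁ → ℕ × ℕ × cen x₁ y₁ → ℕ × ℕ × cen x₁ y₁ := fun m m' =>
    (m.1 + m'.1, m.2.1 + m'.2.1,
      ⟨z₁, z_mem_cen hG₁⟩ ^ ((p - 1) * (m.2.1 * m'.1)) * m.2.2 * m'.2.2)
  have hs : Function.Surjective ψ₁ := by
    intro g
    obtain ⟨a, b, c, hc, rfl⟩ := decomp_surj hG₁ hxy₁ g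
    exact ⟨(a, b, ⟨c, hc⟩), rfl⟩
  have hwd : ∀ m m', ψ₁ m = ψ₁ m' → ψ₂ m = ψ₂ m' := by
    rintro ⟨a, b, c⟩ ⟨a', b', c'⟩ h
    have h' : x₁ ^ a * y₁ ^ b * c.1 = x₁ ^ a' * y₁ ^ b' * c'.1 := h
    obtain ⟨h1, h2⟩ := decomp_inj hG₁ hxy₁ a b a' b' c.1 c'.1 c.2 c'.2 h'
    rw [pow_eq_pow_iff_modEq, hG₁.orderOf] at h1 h2
    rw [pow_eq_of_modEq x₁ hx₁ a a' h1, pow_eq_of_modEq y₁ hy₁ b b' h2] at h'
    have hc : c = c' := Subtype.ext (mul_left_cancel h')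
    show x₂ ^ a * y₂ ^ b * (f c).1 = x₂ ^ a' * y₂ ^ b' * (f c').1
    rw [pow_eq_of_modEq x₂ hx₂ a a' h1, pow_eq_of_modEq y₂ hy₂ b b' h2, hc]
  have h₁ : ∀ m m', ψ₁ (op m m') = ψ₁ m * ψ₁ m' := by
    rintro ⟨a, b, c⟩ ⟨a', b', c'⟩
    show x₁ ^ (a + a') * y₁ ^ (b + b') *
        ((⟨z₁, z_mem_cen hG₁⟩ ^ ((p - 1) * (b * a')) * c * c' : cen x₁ y₁) : Q₁) =
      (x₁ ^ a * y₁ ^ b * c.1) * (x₁ ^ a' * y₁ ^ b' * c'.1)
    rw [decomp_mul hG₁ hxy₁ a b a' b' c.1 c'.1 c.2]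
    simp
  have h₂ : ∀ m m', ψ₂ (op m m') = ψ₂ m * ψ₂ m' := by
    rintro ⟨a, b, c⟩ ⟨a', b', c'⟩
    show x₂ ^ (a + a') * y₂ ^ (b + b') *
        (f (⟨z₁, z_mem_cen hG₁⟩ ^ ((p - 1) * (b * a')) * c * c')).1 =
      (x₂ ^ a * y₂ ^ b * (f c).1) * (x₂ ^ a' * y₂ ^ b' * (f c').1)
    rw [decomp_mul hG₂ hxy₂ a b a' b' (f c).1 (f c').1 (f c).2, map_mul, map_mul, map_pow]
    simp [hf]
  obtain ⟨F, hF⟩ := hom_of_param op ψ₁ ψ₂ hs hwd h₁ h₂
  have hFs : Function.Surjective F := by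
    intro g
    obtain ⟨a, b, c, hc, rfl⟩ := decomp_surj hG₂ hxy₂ g
    refine ⟨ψ₁ (a, b, f.symm ⟨c, hc⟩), ?_⟩
    rw [hF]
    show x₂ ^ a * y₂ ^ b * (f (f.symm ⟨c, hc⟩)).1 = x₂ ^ a * y₂ ^ b * c
    rw [MulEquiv.apply_symm_apply]
  have hFb : Function.Bijective F := (Nat.bijective_iff_surjective_and_card F).2 ⟨hFs, hcard⟩
  refine ⟨MulEquiv.ofBijective F hFb, ?_⟩
  show F z₁ = z₂
  have e : z₁ = ψ₁ (0, 0, ⟨z₁, z_mem_cen hG₁⟩) := by simp [ψ₁]
  rw [e, hF]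
  simp [ψ₂, hf]

/-- Two `Good` groups of order `p` are isomorphic compatibly with the central elements. -/
theorem cyclic_iso {Q₁ : Type*} {Q₂ : Type*} [Group Q₁] [Group Q₂] [Finite Q₁] [Finite Q₂]
    {p : ℕ} [Fact p.Prime] {z₁ : Q₁} {z₂ : Q₂} (hG₁ : Good p Q₁ z₁) (hG₂ : Good p Q₂ z₂)
    (hc₁ : Nat.card Q₁ = p) (hc₂ : Nat.card Q₂ = p) : ∃ F : Q₁ ≃* Q₂, F z₁ = z₂ := by
  have ht₁ : ∀ g : Q₁, ∃ k : ℕ, g = z₁ ^ k :=
    fun g => hG₁.2.2.2.1 g (fun h => abelian_of_card hG₁ hc₁ g h)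
  have ht₂ : ∀ g : Q₂, ∃ k : ℕ, g = z₂ ^ k :=
    fun g => hG₂.2.2.2.1 g (fun h => abelian_of_card hG₂ hc₂ g h)
  obtain ⟨F, hF⟩ := hom_of_param (fun k k' : ℕ => k + k') (fun k => z₁ ^ k) (fun k => z₂ ^ k)
    (fun g => by obtain ⟨k, hk⟩ := ht₁ g; exact ⟨k, hk.symm⟩)
    (fun k k' h => by
      have h' : z₁ ^ k = z₁ ^ k' := h
      rw [pow_eq_pow_iff_modEq, hG₁.orderOf] at h'
      show z₂ ^ k = z₂ ^ k'
      rw [pow_eq_pow_iff_modEq, hG₂.orderOf]; exact h')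
    (fun k k' => pow_add z₁ k k') (fun k k' => pow_add z₂ k k')
  have hFs : Function.Surjective F := by
    intro g
    obtain ⟨k, hk⟩ := ht₂ g
    exact ⟨z₁ ^ k, by rw [hF, hk]⟩
  have hFb : Function.Bijective F :=
    (Nat.bijective_iff_surjective_and_card F).2 ⟨hFs, hc₁.trans hc₂.symm⟩
  refine ⟨MulEquiv.ofBijective F hFb, ?_⟩
  show F z₁ = z₂
  have := hF 1
  simpa using this

/-- An extraspecial group is `Good`. -/
theorem good_of_extraspecial {E : Type*} [Group E] [Finite E] {p : ℕ} [Fact p.Prime]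
    (h : Cfsg.IsExtraspecial p E) : ∃ z : E, Good p E z := by
  obtain ⟨⟨hP, hfr, hcomm⟩, hcard⟩ := h
  have hpp : p.Prime := Fact.out
  have hne : Subgroup.center E ≠ ⊥ := by
    intro hb
    rw [hb, Subgroup.card_bot] at hcard
    exact hpp.one_lt.ne hcard
  obtain ⟨z, hz1⟩ := (Subgroup.ne_bot_iff_exists_ne_one).1 hne
  have hz1' : z.1 ≠ 1 := fun h => hz1 (Subtype.ext h)
  have hzp : z.1 ^ p = 1 := by
    have h1 : z ^ Nat.card (Subgroup.center E) = 1 := pow_card_eq_one'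
    rw [hcard] at h1
    simpa using congrArg Subtype.val h1
  have hzo : orderOf z.1 = p := orderOf_eq_prime hzp hz1'
  have hZ : Subgroup.zpowers z.1 = Subgroup.center E := by
    apply Subgroup.eq_of_le_of_card_ge (Subgroup.zpowers_le.2 z.2)
    rw [Nat.card_zpowers, hzo, hcard]
  have hmem : ∀ c ∈ Subgroup.center E, ∃ k : ℕ, c = z.1 ^ k := by
    intro c hc
    rw [← hZ] at hc
    obtain ⟨k, hk⟩ := mem_powers_iff_mem_zpowers.2 hc
    exact ⟨k, hk.symm⟩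
  refine ⟨z.1, hz1', hzp, fun g => ((Subgroup.mem_center_iff.1 z.2) g).symm, ?_, ?_⟩
  · intro c hc
    apply hmem
    rw [Subgroup.mem_center_iff]
    intro g
    exact (hc g).symm
  · intro g h
    apply hmem
    rw [← hcomm, commutator_def]
    exact Subgroup.commutator_mem_commutator (Subgroup.mem_top g) (Subgroup.mem_top h)

end Cfsg.Agent.Lib.Lead.Extraspecial
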