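import Mathlib

/-!
# Involutions acting on groups of odd order

Two elementary counting lemmas about an involution `z` normalizing a subgroup of odd order:
* `exists_inv_or_cent`: for each prime `p` dividing `|N|` there is an element of order `p` of `N`
  that is centralized or inverted by `z`;
* `card_inverted`: the number of elements of `P` inverted by `z` equals `|P : C_P(z)|`.
-/

set_option autoImplicit false

open scoped Pointwise

namespace Cfsg.Agent.Lib.Lead.InvAct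

theorem exists_inv_or_cent {G : Type*} [Group G] [Finite G] (z : G) (hz : orderOf z = 2)
    (N : Subgroup G) (hzN : z ∈ Subgroup.normalizer (N : Set G)) (hodd : Odd (Nat.card N))
    (p : ℕ) [Fact p.Prime] (hp : p ∣ Nat.card N) :
    ∃ x : G, x ∈ N ∧ orderOf x = p ∧ (z * x * z⁻¹ = x ∨ z * x * z⁻¹ = x⁻¹) := by
  have hzz : z * z = 1 := by rw [← pow_two, ← hz, pow_orderOf_eq_one]
  have hzinv : z⁻¹ = z := inv_eq_of_mul_eq_one_right hzz
  have hconj : ∀ x, x ∈ N → z * x * z⁻¹ ∈ N :=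
    fun x hx => (Subgroup.mem_normalizer_iff.1 hzN x).1 hx
  have hinvol : ∀ n : G, z * (z * n * z⁻¹) * z⁻¹ = n := by
    intro n
    rw [hzinv]
    calc z * (z * n * z) * z = (z * z) * n * (z * z) := by group
      _ = n := by rw [hzz]; simp
  -- the automorphism of `N` induced by `z`
  let ψ : MulAut ↥N :=
    { toFun := fun n => ⟨z * n * z⁻¹, hconj n n.2⟩
      invFun := fun n => ⟨z * n * z⁻¹, hconj n n.2⟩
      left_inv := fun n => Subtype.ext (hinvol n)
      right_inv := fun n => Subtype.ext (hinvol n)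
      map_mul' := fun a b => Subtype.ext (by
        show z * ((a : G) * b) * z⁻¹ = z * a * z⁻¹ * (z * b * z⁻¹)
        group) }
  have hψval : ∀ n : ↥N, ((ψ n : ↥N) : G) = z * n * z⁻¹ := fun n => rfl
  have hψψ : ∀ n : ↥N, ψ (ψ n) = n := fun n => Subtype.ext (hinvol n)
  have hψ2 : ψ * ψ = 1 := by
    ext n : 1
    exact hψψ n
  -- a `z`-invariant Sylow `p`-subgroup of `N`
  obtain ⟨P, hP⟩ : ∃ P : Sylow p ↥N, ψ • P = P := by
    classical
    haveI : Fintype (Sylow p ↥N) := Fintype.ofFinite _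
    have hcard : ¬ 2 ∣ Fintype.card (Sylow p ↥N) := by
      rw [← Nat.card_eq_fintype_card]
      intro h2
      obtain ⟨P0⟩ : Nonempty (Sylow p ↥N) := inferInstance
      have h1 : Nat.card (Sylow p ↥N) ∣ Nat.card ↥N :=
        (P0.card_dvd_index).trans (Subgroup.index_dvd_card _)
      exact (Nat.not_even_iff_odd.2 hodd) (even_iff_two_dvd.2 (h2.trans h1))
    let σ : Equiv.Perm (Sylow p ↥N) :=
      ⟨fun P => ψ • P, fun P => ψ • P,
        fun P => by show ψ • (ψ • P) = P; rw [← mul_smul, hψ2, one_smul],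
        fun P => by show ψ • (ψ • P) = P; rw [← mul_smul, hψ2, one_smul]⟩
    have hσ : σ ^ 2 ^ 1 = 1 := by
      ext P : 1
      show σ ((σ ^ 1) P) = P
      show ψ • (ψ • P) = P
      rw [← mul_smul, hψ2, one_smul]
    haveI : Fact (Nat.Prime 2) := ⟨Nat.prime_two⟩
    obtain ⟨P, hP⟩ := Equiv.Perm.exists_fixed_point_of_prime hcard hσ
    exact ⟨P, hP⟩
  have hPinv : ∀ q : ↥N, q ∈ P → ψ q ∈ P := by
    intro q hq
    have h1 : ψ • q ∈ ψ • (P : Subgroup ↥N) := Subgroup.smul_mem_pointwise_smul q ψ _ hq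
    rw [← Sylow.pointwise_smul_def, hP] at h1
    exact h1
  have hpP : p ∣ Nat.card (P : Subgroup ↥N) := P.dvd_card_of_dvd_card hp
  by_cases hall : ∀ q : ↥N, q ∈ P → ψ q = q
  · obtain ⟨x, hx⟩ := exists_prime_orderOf_dvd_card' p hpP
    refine ⟨((x : ↥N) : G), (x : ↥N).2, ?_, Or.inl ?_⟩
    · rw [Subgroup.orderOf_coe, Subgroup.orderOf_coe, hx]
    · exact congrArg Subtype.val (hall x x.2)
  · push Not at hall
    obtain ⟨q, hq, hne⟩ := hall
    have hu_mem : q⁻¹ * ψ q ∈ (P : Subgroup ↥N) := mul_mem (inv_mem hq) (hPinv q hq)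
    have hu_ne : q⁻¹ * ψ q ≠ 1 := fun h => hne (by rw [inv_mul_eq_one] at h; exact h.symm)
    have hu_inv : ψ (q⁻¹ * ψ q) = (q⁻¹ * ψ q)⁻¹ := by
      rw [map_mul, map_inv, hψψ, mul_inv_rev, inv_inv]
    obtain ⟨u, hu⟩ : ∃ u : ↥N, u = q⁻¹ * ψ q := ⟨_, rfl⟩
    rw [← hu] at hu_mem hu_ne hu_inv
    have hpu : p ∣ orderOf u := by
      obtain ⟨k, hk⟩ := P.2 ⟨u, hu_mem⟩
      have h1 : u ^ p ^ k = 1 := by
        have := congrArg Subtype.val hk
        simpa using this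
      have h2 : orderOf u ∣ p ^ k := orderOf_dvd_of_pow_eq_one h1
      obtain ⟨j, -, hj2⟩ := (Nat.dvd_prime_pow (Fact.out : p.Prime)).1 h2
      cases j with
      | zero => exact absurd (orderOf_eq_one_iff.1 (by simpa using hj2)) hu_ne
      | succ j => rw [hj2]; exact dvd_pow_self p (Nat.succ_ne_zero j)
    refine ⟨((u ^ (orderOf u / p) : ↥N) : G), (u ^ (orderOf u / p)).2, ?_, Or.inr ?_⟩
    · rw [Subgroup.orderOf_coe]
      exact orderOf_pow_orderOf_div (orderOf_pos u).ne' hpu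
    · have h3 : ψ (u ^ (orderOf u / p)) = (u ^ (orderOf u / p))⁻¹ := by
        rw [map_pow, hu_inv, inv_pow]
      exact congrArg Subtype.val h3

theorem card_inverted {G : Type*} [Group G] [Finite G] (z : G) (hz : orderOf z = 2)
    (P : Subgroup G) (hodd : Odd (Nat.card P)) (hzP : z ∈ Subgroup.normalizer (P : Set G)) :
    (P ⊓ Subgroup.centralizer ({z} : Set G)).relIndex P
      = Nat.card {x : G // x ∈ P ∧ z * x * z⁻¹ = x⁻¹} := by
  have hzz : z * z = 1 := by rw [← pow_two, ← hz, pow_orderOf_eq_one]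
  have hzinv : z⁻¹ = z := inv_eq_of_mul_eq_one_right hzz
  have hzz' : ∀ a : G, z * (z * a) = a := fun a => by rw [← mul_assoc, hzz, one_mul]
  have hconj : ∀ x, x ∈ P → z * x * z⁻¹ ∈ P :=
    fun x hx => (Subgroup.mem_normalizer_iff.1 hzP x).1 hx
  have hmem : ∀ x : G, x ∈ P → x * z * x⁻¹ * z⁻¹ ∈ P := by
    intro x hx
    have h1 : x * z * x⁻¹ * z⁻¹ = x * (z * x⁻¹ * z⁻¹) := by group
    rw [h1]
    exact P.mul_mem hx (hconj _ (P.inv_mem hx))
  have hinvd : ∀ x : G, z * (x * z * x⁻¹ * z⁻¹) * z⁻¹ = (x * z * x⁻¹ * z⁻¹)⁻¹ := by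
    intro x
    rw [hzinv, eq_inv_iff_mul_eq_one]
    simp only [mul_assoc, hzz', hzz, one_mul, inv_mul_cancel_left, mul_inv_cancel_left]
  obtain ⟨C', hC'⟩ : ∃ C' : Subgroup ↥P,
      C' = (P ⊓ Subgroup.centralizer ({z} : Set G)).subgroupOf P := ⟨_, rfl⟩
  have hC'mem : ∀ c : ↥P, c ∈ C' ↔ z * (c : G) = c * z := by
    intro c
    rw [hC', Subgroup.mem_subgroupOf, Subgroup.mem_inf, Subgroup.mem_centralizer_iff]
    constructor
    · rintro ⟨-, h⟩
      exact h z rfl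
    · intro h
      refine ⟨c.2, ?_⟩
      intro y hy
      rw [Set.mem_singleton_iff] at hy
      rw [hy]
      exact h
  let f : ↥P → {x : G // x ∈ P ∧ z * x * z⁻¹ = x⁻¹} := fun x =>
    ⟨(x : G) * z * (x : G)⁻¹ * z⁻¹, hmem x x.2, hinvd x⟩
  have hfval : ∀ x : ↥P, ((f x : {x : G // x ∈ P ∧ z * x * z⁻¹ = x⁻¹}) : G)
      = (x : G) * z * (x : G)⁻¹ * z⁻¹ := fun x => rfl
  have key : ∀ x y : ↥P, f x = f y ↔ x⁻¹ * y ∈ C' := by
    intro x y
    rw [hC'mem, Subtype.ext_iff, hfval, hfval]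
    constructor
    · intro h
      have h' : (x : G) * z * (x : G)⁻¹ = (y : G) * z * (y : G)⁻¹ := mul_right_cancel h
      show z * ((x : G)⁻¹ * (y : G)) = (x : G)⁻¹ * (y : G) * z
      calc z * ((x : G)⁻¹ * (y : G)) = (x : G)⁻¹ * ((x : G) * z * (x : G)⁻¹) * y := by group
        _ = (x : G)⁻¹ * ((y : G) * z * (y : G)⁻¹) * y := by rw [h']
        _ = (x : G)⁻¹ * (y : G) * z := by group
    · intro h
      have h' : z * ((x : G)⁻¹ * (y : G)) = (x : G)⁻¹ * (y : G) * z := h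
      calc (x : G) * z * (x : G)⁻¹ * z⁻¹
          = (x : G) * (z * ((x : G)⁻¹ * (y : G))) * (y : G)⁻¹ * z⁻¹ := by group
        _ = (x : G) * ((x : G)⁻¹ * (y : G) * z) * (y : G)⁻¹ * z⁻¹ := by rw [h']
        _ = (y : G) * z * (y : G)⁻¹ * z⁻¹ := by group
  have hsurj : Function.Surjective f := by
    rintro ⟨u, huP, hu⟩
    have hou : Odd (orderOf u) := Odd.of_dvd_nat hodd (Subgroup.orderOf_dvd_natCard P huP)
    obtain ⟨k, hk⟩ := hou
    have hvv : u ^ (k + 1) * u ^ (k + 1) = u := by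
      rw [← pow_add]
      have : k + 1 + (k + 1) = orderOf u + 1 := by omega
      rw [this, pow_succ, pow_orderOf_eq_one, one_mul]
    have hvinv : z * u ^ (k + 1) * z⁻¹ = (u ^ (k + 1))⁻¹ := by
      rw [← conj_pow, hu, inv_pow]
    have hvinv' : z * (u ^ (k + 1))⁻¹ * z⁻¹ = u ^ (k + 1) := by
      have h1 : z * (u ^ (k + 1))⁻¹ * z⁻¹ = (z * u ^ (k + 1) * z⁻¹)⁻¹ := by group
      rw [h1, hvinv, inv_inv]
    refine ⟨⟨u ^ (k + 1), P.pow_mem huP _⟩, ?_⟩
    apply Subtype.ext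
    rw [hfval]
    show u ^ (k + 1) * z * (u ^ (k + 1))⁻¹ * z⁻¹ = u
    have h2 : u ^ (k + 1) * z * (u ^ (k + 1))⁻¹ * z⁻¹
        = u ^ (k + 1) * (z * (u ^ (k + 1))⁻¹ * z⁻¹) := by group
    rw [h2, hvinv', hvv]
  rw [Subgroup.relIndex, ← hC', Subgroup.index]
  refine Nat.card_congr (Equiv.ofBijective (Quotient.lift f ?_) ⟨?_, ?_⟩)
  · intro a b hab
    exact (key a b).2 (QuotientGroup.leftRel_apply.1 hab)
  · rintro ⟨a⟩ ⟨b⟩ h
    exact Quotient.sound (QuotientGroup.leftRel_apply.2 ((key a b).1 h))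
  · intro u
    obtain ⟨x, hx⟩ := hsurj u
    exact ⟨Quotient.mk _ x, hx⟩

end Cfsg.Agent.Lib.Lead.InvAct
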