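import Mathlib
import Cfsg.Agent.S0065
import Cfsg.Agent.Lib.Helper18.DihedralEquiv

set_option autoImplicit false

namespace Cfsg.Agent.Lib.Lead.MaxClass2

open scoped commutatorElement

universe u

section idx2

variable {X : Type*} [Group X] (M : Subgroup X) (hi : M.index = 2)
  (hM : ∀ a ∈ M, ∀ b ∈ M, a * b = b * a)

include hi in
/-- every element is in `M` or in `x * M`. -/
theorem mem_or (x : X) (hx : x ∉ M) (g : X) : g ∈ M ∨ x⁻¹ * g ∈ M := by
  by_cases hg : g ∈ M
  · exact Or.inl hg
  · right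
    rw [Subgroup.mul_mem_iff_of_index_two hi]
    constructor
    · intro h; exact absurd (M.inv_mem_iff.1 h) hx
    · intro h; exact absurd h hg

include hi hM in
/-- an element of `M` commuting with one element outside `M` is central. -/
theorem mem_center_of_comm (x : X) (hx : x ∉ M) (u : X) (hu : u ∈ M) (hux : u * x = x * u) :
    u ∈ Subgroup.center X := by
  rw [Subgroup.mem_center_iff]
  intro g
  rcases mem_or M hi x hx g with hg | hg
  · exact hM g hg u hu
  · have h1 : g = x * (x⁻¹ * g) := by group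
    rw [h1, mul_assoc, hM _ hg u hu, ← mul_assoc, ← hux, mul_assoc]

include hi hM in
/-- the square of an element outside `M` is central. -/
theorem sq_mem_center (y : X) (hy : y ∉ M) : y ^ 2 ∈ Subgroup.center X := by
  apply mem_center_of_comm M hi hM y hy (y ^ 2) (Subgroup.sq_mem_of_index_two hi y)
  rw [pow_two, mul_assoc]

include hi hM in
/-- the centre of a nonabelian group lies in every abelian subgroup of index two. -/
theorem center_le (hX : ¬ ∀ a b : X, a * b = b * a) : Subgroup.center X ≤ M := by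
  intro z hz
  by_contra hzM
  apply hX
  have key : ∀ g : X, ∃ c ∈ Subgroup.center X, ∃ m ∈ M, g = c * m := by
    intro g
    rcases mem_or M hi z hzM g with hg | hg
    · exact ⟨1, Subgroup.one_mem _, g, hg, (one_mul g).symm⟩
    · exact ⟨z, hz, z⁻¹ * g, hg, by group⟩
  intro a b
  obtain ⟨c, hc, m, hm, rfl⟩ := key a
  obtain ⟨c', hc', m', hm', rfl⟩ := key b
  have h1 : ∀ g : X, g * c = c * g := Subgroup.mem_center_iff.1 hc
  have h2 : ∀ g : X, g * c' = c' * g := Subgroup.mem_center_iff.1 hc'
  calc c * m * (c' * m') = c * (m * c') * m' := by group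
    _ = c * (c' * m) * m' := by rw [h2 m]
    _ = c * c' * (m * m') := by group
    _ = c * c' * (m' * m) := by rw [hM m hm m' hm']
    _ = c' * c * (m' * m) := by rw [h1 c']
    _ = c' * (c * m') * m := by group
    _ = c' * (m' * c) * m := by rw [h1 m']
    _ = c' * m' * (c * m) := by group

end idx2

section L1

variable {X : Type*} [Group X] (M : Subgroup X) (hi : M.index = 2)
  (hM : ∀ a ∈ M, ∀ b ∈ M, a * b = b * a)

include hi hM in
/-- `|M| = |Z(X)| * |X'|` for an abelian subgroup `M` of index two of a nonabelian group. -/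
theorem card_eq_center_mul_commutator (hX : ¬ ∀ a b : X, a * b = b * a) :
    Nat.card M = Nat.card (Subgroup.center X) * Nat.card (commutator X) := by
  haveI hMn : M.Normal := Subgroup.normal_of_index_eq_two hi
  have hMtop : M ≠ ⊤ := by
    intro h
    rw [h, Subgroup.index_top] at hi
    omega
  obtain ⟨x, hx⟩ : ∃ x, x ∉ M := by
    by_contra hcon
    push Not at hcon
    exact hMtop (Subgroup.eq_top_iff' M |>.2 hcon)
  have hcz := center_le M hi hM hX
  -- the commutator homomorphism
  let δ : ↥M →* X := MonoidHom.mk' (fun m => ⁅(m : X), x⁆) (by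
    intro m m'
    have h1 : x * (m' : X)⁻¹ * x⁻¹ ∈ M := hMn.conj_mem _ (M.inv_mem m'.2) x
    show ⁅(m : X) * (m' : X), x⁆ = ⁅(m : X), x⁆ * ⁅(m' : X), x⁆
    rw [commutatorElement_def, commutatorElement_def, commutatorElement_def]
    calc (m : X) * m' * x * ((m : X) * m')⁻¹ * x⁻¹
        = m * (m' * (x * (m' : X)⁻¹ * x⁻¹)) * (x * (m : X)⁻¹ * x⁻¹) := by group
      _ = m * ((x * (m : X)⁻¹ * x⁻¹) * (m' * (x * (m' : X)⁻¹ * x⁻¹))) := by
          rw [mul_assoc (m : X), hM _ (M.mul_mem m'.2 h1) _ (hMn.conj_mem _ (M.inv_mem m.2) x)]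
      _ = m * x * (m : X)⁻¹ * x⁻¹ * (m' * x * (m' : X)⁻¹ * x⁻¹) := by group)
  have hδ : ∀ m : ↥M, δ m = ⁅(m : X), x⁆ := fun m => rfl
  -- kernel
  have hker : δ.ker = (Subgroup.center X).subgroupOf M := by
    ext m
    rw [MonoidHom.mem_ker, hδ, Subgroup.mem_subgroupOf, commutatorElement_eq_one_iff_mul_comm]
    constructor
    · intro h
      exact mem_center_of_comm M hi hM x hx m m.2 h
    · intro h
      exact (Subgroup.mem_center_iff.1 h x).symm
  -- range
  have hrange : δ.range = commutator X := by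
    apply le_antisymm
    · rintro _ ⟨m, rfl⟩
      rw [hδ, commutator_def]
      exact Subgroup.commutator_mem_commutator (Subgroup.mem_top _) (Subgroup.mem_top _)
    · rw [commutator_def, Subgroup.commutator_le]
      have c2 : ∀ m ∈ M, ∀ b : X, b ∉ M → ⁅m, b⁆ ∈ δ.range := by
        intro m hm b hb
        have hm' : x⁻¹ * b ∈ M := (mem_or M hi x hx b).resolve_left hb
        refine ⟨⟨m, hm⟩, ?_⟩
        rw [hδ, commutatorElement_def, commutatorElement_def]
        have h2 : (x⁻¹ * b) * m⁻¹ * (x⁻¹ * b)⁻¹ = m⁻¹ := by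
          rw [hM _ hm' _ (M.inv_mem hm), mul_assoc, mul_inv_cancel, mul_one]
        calc m * x * m⁻¹ * x⁻¹ = m * x * ((x⁻¹ * b) * m⁻¹ * (x⁻¹ * b)⁻¹) * x⁻¹ := by rw [h2]
          _ = m * b * m⁻¹ * b⁻¹ := by group
      have c3 : ∀ a : X, a ∉ M → ∀ m ∈ M, ⁅a, m⁆ ∈ δ.range := by
        intro a ha m hm
        rw [← commutatorElement_inv]
        exact δ.range.inv_mem (c2 m hm a ha)
      intro a _ b _
      by_cases ha : a ∈ M
      · by_cases hb : b ∈ M
        · rw [commutatorElement_eq_one_iff_mul_comm.2 (hM a ha b hb)]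
          exact Subgroup.one_mem _
        · exact c2 a ha b hb
      · by_cases hb : b ∈ M
        · exact c3 a ha b hb
        · have hk : a⁻¹ * b ∈ M := (mem_or M hi a ha b).resolve_left hb
          have h3 : ⁅a, b⁆ = ⁅a, a * (a⁻¹ * b) * a⁻¹⁆ := by
            rw [commutatorElement_def, commutatorElement_def]; group
          rw [h3]
          exact c3 a ha _ (hMn.conj_mem _ hk a)
  have h1 : Nat.card δ.ker * δ.ker.index = Nat.card M := Subgroup.card_mul_index _
  rw [Subgroup.index_ker, hrange, hker,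
    Nat.card_congr (Subgroup.subgroupOfEquivOfLe hcz).toEquiv] at h1
  exact h1.symm

end L1

section basics

variable {X : Type*} [Group X]

theorem commutator_quot_index (K : Subgroup X) [K.Normal] (hK : K ≤ commutator X) :
    (commutator (X ⧸ K)).index = (commutator X).index := by
  have h1 : (commutator X).map (QuotientGroup.mk' K) = commutator (X ⧸ K) := by
    rw [map_commutator_eq, MonoidHom.range_eq_top_of_surjective _ (QuotientGroup.mk'_surjective K),
      commutator_def]
  rw [← h1]
  exact Subgroup.index_map_eq _ (QuotientGroup.mk'_surjective K)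
    (by rw [QuotientGroup.ker_mk']; exact hK)

theorem card_quot [Finite X] (K : Subgroup X) [K.Normal] (hK2 : Nat.card K = 2) (n : ℕ)
    (hX : Nat.card X = 2 ^ (n + 1)) : Nat.card (X ⧸ K) = 2 ^ n := by
  have h1 := Subgroup.card_eq_card_quotient_mul_card_subgroup K
  rw [hX, hK2, pow_succ] at h1
  omega

theorem normal_of_le_center (K : Subgroup X) (hK : K ≤ Subgroup.center X) : K.Normal :=
  ⟨fun a ha g => by
    rw [Subgroup.mem_center_iff.1 (hK ha) g, mul_inv_cancel_right]; exact ha⟩

theorem commutator_ne_bot [Finite X] (n : ℕ) (hn : 3 ≤ n) (hX : Nat.card X = 2 ^ n)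
    (hidx : (commutator X).index = 4) : commutator X ≠ ⊥ := by
  intro h
  have hcX : Nat.card (commutator X) * 4 = 2 ^ n := by
    have h := Subgroup.card_mul_index (commutator X)
    rw [hidx, hX] at h
    exact h
  rw [h, Subgroup.card_bot] at hcX
  have h3 : 2 ^ 3 ≤ 2 ^ n := Nat.pow_le_pow_right (by norm_num) hn
  omega

theorem not_comm [Finite X] (n : ℕ) (hn : 3 ≤ n) (hX : Nat.card X = 2 ^ n)
    (hidx : (commutator X).index = 4) : ¬ ∀ a b : X, a * b = b * a := by
  intro h
  apply commutator_ne_bot n hn hX hidx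
  rw [commutator_eq_bot_iff]
  exact ⟨⟨h⟩⟩

theorem exists_central_invol [Finite X] (n : ℕ) (hX : Nat.card X = 2 ^ n)
    (hne : commutator X ≠ ⊥) :
    ∃ z, z ∈ commutator X ∧ z ∈ Subgroup.center X ∧ orderOf z = 2 := by
  haveI : Fact (Nat.Prime 2) := ⟨Nat.prime_two⟩
  have hP : IsPGroup 2 X := IsPGroup.of_card hX
  haveI : Group.IsNilpotent X := hP.isNilpotent
  have h1 := S0065.normal_inf_center_ne_bot (commutator X) hne
  have h2 : 2 ∣ Nat.card (commutator X ⊓ Subgroup.center X : Subgroup X) := by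
    rcases (hP.to_subgroup (commutator X ⊓ Subgroup.center X)).card_eq_or_dvd with h | h
    · exact absurd (Subgroup.card_eq_one.1 h) h1
    · exact h
  obtain ⟨z, hz⟩ := exists_prime_orderOf_dvd_card' 2 h2
  refine ⟨z, z.2.1, z.2.2, ?_⟩
  rw [← hz]
  exact Subgroup.orderOf_coe z

theorem mem_zpowers_two {z : X} (hz : orderOf z = 2) {y : X} (hy : y ∈ Subgroup.zpowers z) :
    y = 1 ∨ y = z := by
  obtain ⟨k, rfl⟩ := Subgroup.mem_zpowers_iff.1 hy
  have hz2 : z ^ 2 = 1 := by rw [← hz]; exact pow_orderOf_eq_one z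
  rcases Int.even_or_odd k with ⟨j, hj⟩ | ⟨j, hj⟩
  · left
    rw [hj, ← two_mul, zpow_mul, zpow_ofNat, hz2, one_zpow]
  · right
    rw [hj, zpow_add, zpow_mul, zpow_ofNat, hz2, one_zpow, one_mul, zpow_one]

theorem exists_cyclic_of_card_eight [Finite X] (hX : Nat.card X = 8)
    (hnc : ¬ ∀ a b : X, a * b = b * a) : ∃ C : Subgroup X, IsCyclic C ∧ C.index = 2 := by
  obtain ⟨x, hx⟩ : ∃ x : X, x ^ 2 ≠ 1 := by
    by_contra hcon
    push Not at hcon
    apply hnc
    intro a b
    have ha' : a⁻¹ = a := by rw [inv_eq_iff_mul_eq_one, ← pow_two]; exact hcon a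
    have hb' : b⁻¹ = b := by rw [inv_eq_iff_mul_eq_one, ← pow_two]; exact hcon b
    have h2 : (a * b)⁻¹ = a * b := by rw [inv_eq_iff_mul_eq_one, ← pow_two]; exact hcon (a * b)
    rw [mul_inv_rev, ha', hb'] at h2
    exact h2.symm
  have hdvd : orderOf x ∣ 8 := hX ▸ orderOf_dvd_natCard x
  have ho : orderOf x = 4 := by
    have h8 : orderOf x ≠ 8 := by
      intro h
      apply hnc
      haveI : IsCyclic X := isCyclic_of_orderOf_eq_card x (by rw [h, hX])
      intro a b
      exact (IsCyclic.isMulCommutative (α := X)).is_comm.comm a b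
    have h1 : orderOf x ≠ 1 := by
      intro h; rw [orderOf_eq_one_iff] at h; rw [h, one_pow] at hx; exact hx rfl
    have h2 : orderOf x ≠ 2 := by
      intro h; exact hx (by rw [← h]; exact pow_orderOf_eq_one x)
    have hmem : orderOf x ∈ Nat.divisors 8 := Nat.mem_divisors.2 ⟨hdvd, by norm_num⟩
    have hdiv : Nat.divisors 8 = {1, 2, 4, 8} := by decide
    rw [hdiv] at hmem
    simp only [Finset.mem_insert, Finset.mem_singleton] at hmem
    omega
  refine ⟨Subgroup.zpowers x, inferInstance, ?_⟩
  have h1 := Subgroup.card_mul_index (Subgroup.zpowers x)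
  rw [Nat.card_zpowers, ho, hX] at h1
  omega

theorem class_of_card_four [Finite X] (h : Nat.card X = 4) : Group.nilpotencyClass X = 1 := by
  haveI : Fact (Nat.Prime 2) := ⟨Nat.prime_two⟩
  have hP : IsPGroup 2 X := IsPGroup.of_card (n := 2) (by rw [h]; norm_num)
  haveI := hP.isNilpotent
  have h1 : Group.nilpotencyClass X ≤ 1 :=
    Group.IsNilpotent.nilpotencyClass_le_one_iff.2
      (IsPGroup.isMulCommutative_of_card_eq_prime_sq (p := 2) (by rw [h]; norm_num))
  have h0 : Group.nilpotencyClass X ≠ 0 := by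
    rw [Ne, Group.nilpotencyClass_zero_iff_subsingleton]
    intro hs
    rw [Nat.card_eq_one_iff_unique.2 ⟨hs, ⟨1⟩⟩] at h
    omega
  omega

theorem center_facts [Finite X] (n : ℕ) (hn : 3 ≤ n) (hX : Nat.card X = 2 ^ n)
    (hidx : (commutator X).index = 4) (M : Subgroup X) (hi : M.index = 2)
    (hM : ∀ a ∈ M, ∀ b ∈ M, a * b = b * a) :
    Nat.card (Subgroup.center X) = 2 ∧ Subgroup.center X ≤ commutator X := by
  have hcX : Nat.card (commutator X) * 4 = 2 ^ n := by
    have h := Subgroup.card_mul_index (commutator X)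
    rw [hidx, hX] at h
    exact h
  have hne := commutator_ne_bot n hn hX hidx
  have hnc := not_comm n hn hX hidx
  have h1 := card_eq_center_mul_commutator M hi hM hnc
  have h2 : Nat.card M * 2 = 2 ^ n := by
    have h := Subgroup.card_mul_index M
    rw [hi, hX] at h
    exact h
  have hZ : Nat.card (Subgroup.center X) = 2 := by
    have h3 : Nat.card (commutator X) ≠ 0 := Nat.card_pos.ne'
    have h4 : Nat.card (Subgroup.center X) * Nat.card (commutator X)
        = 2 * Nat.card (commutator X) := by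
      rw [← h1]; omega
    exact Nat.eq_of_mul_eq_mul_right (Nat.pos_of_ne_zero h3) h4
  refine ⟨hZ, ?_⟩
  obtain ⟨z, hzc, hzz, hzo⟩ := exists_central_invol n hX hne
  have h5 : Subgroup.zpowers z = Subgroup.center X := by
    apply Subgroup.eq_of_le_of_card_ge
    · rw [Subgroup.zpowers_le]; exact hzz
    · rw [Nat.card_zpowers, hzo, hZ]
  rw [← h5, Subgroup.zpowers_le]
  exact hzc

end basics

/-- Taussky's theorem: a 2-group of order `2 ^ n ≥ 8` whose commutator subgroup has index 4 has a
cyclic subgroup of index 2, a centre of order 2 contained in the commutator subgroup, and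
nilpotency class `n - 1`. -/
theorem taussky : ∀ (n : ℕ), 3 ≤ n → ∀ (X : Type u) [Group X] [Finite X], Nat.card X = 2 ^ n →
    (commutator X).index = 4 →
    (∃ C : Subgroup X, IsCyclic C ∧ C.index = 2) ∧ Nat.card (Subgroup.center X) = 2 ∧
      Subgroup.center X ≤ commutator X ∧ Group.nilpotencyClass X = n - 1 := by
  intro n hn
  induction n, hn using Nat.le_induction with
  | base =>
    intro X _ _ hX hidx
    haveI : Fact (Nat.Prime 2) := ⟨Nat.prime_two⟩
    have hP : IsPGroup 2 X := IsPGroup.of_card hX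
    haveI : Group.IsNilpotent X := hP.isNilpotent
    have hnc := not_comm 3 le_rfl hX hidx
    obtain ⟨C, hCc, hCi⟩ := exists_cyclic_of_card_eight (by rw [hX]; norm_num) hnc
    have hCab : ∀ a ∈ C, ∀ b ∈ C, a * b = b * a := by
      intro a ha b hb
      have h1 := (IsCyclic.isMulCommutative (α := C)).is_comm.comm ⟨a, ha⟩ ⟨b, hb⟩
      exact congrArg Subtype.val h1
    obtain ⟨hZ, hZc⟩ := center_facts 3 le_rfl hX hidx C hCi hCab
    refine ⟨⟨C, hCc, hCi⟩, hZ, hZc, ?_⟩
    haveI : Nontrivial X := by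
      rw [← Finite.one_lt_card_iff_nontrivial, hX]; norm_num
    rw [Group.nilpotencyClass_eq_quotient_center_plus_one,
      class_of_card_four (card_quot (Subgroup.center X) hZ 2 hX)]
  | succ n hn ih =>
    intro X _ _ hX hidx
    haveI : Fact (Nat.Prime 2) := ⟨Nat.prime_two⟩
    have hP : IsPGroup 2 X := IsPGroup.of_card hX
    haveI : Group.IsNilpotent X := hP.isNilpotent
    have hn1 : 3 ≤ n + 1 := by omega
    have hne := commutator_ne_bot (n + 1) hn1 hX hidx
    obtain ⟨z, hzc, hzz, hzo⟩ := exists_central_invol (n + 1) hX hne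
    have hNle : Subgroup.zpowers z ≤ Subgroup.center X := by
      rw [Subgroup.zpowers_le]; exact hzz
    haveI hNn : (Subgroup.zpowers z).Normal := normal_of_le_center _ hNle
    have hNc : Nat.card (Subgroup.zpowers z) = 2 := by rw [Nat.card_zpowers, hzo]
    have hNX' : Subgroup.zpowers z ≤ commutator X := by
      rw [Subgroup.zpowers_le]; exact hzc
    have hqc : Nat.card (X ⧸ Subgroup.zpowers z) = 2 ^ n := card_quot _ hNc n hX
    have hqi : (commutator (X ⧸ Subgroup.zpowers z)).index = 4 := by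
      rw [commutator_quot_index _ hNX', hidx]
    obtain ⟨⟨Cb, hCbc, hCbi⟩, -, -, -⟩ := ih (X ⧸ Subgroup.zpowers z) hqc hqi
    obtain ⟨gb, hgb⟩ := hCbc.exists_generator
    obtain ⟨a, ha⟩ := QuotientGroup.mk_surjective (gb : X ⧸ Subgroup.zpowers z)
    set M : Subgroup X := Cb.comap (QuotientGroup.mk' (Subgroup.zpowers z)) with hMdef
    have hMi : M.index = 2 := by
      rw [hMdef, Subgroup.index_comap_of_surjective _ (QuotientGroup.mk'_surjective _), hCbi]
    have haM : a ∈ M := by
      show ((a : X) : X ⧸ Subgroup.zpowers z) ∈ Cb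
      rw [ha]; exact gb.2
    have hMs : ∀ m ∈ M, ∃ i : ℤ, ∃ ζ ∈ Subgroup.zpowers z, m = a ^ i * ζ := by
      intro m hm
      have hm' : ((m : X) : X ⧸ Subgroup.zpowers z) ∈ Cb := hm
      obtain ⟨i, hi⟩ := Subgroup.mem_zpowers_iff.1 (hgb ⟨_, hm'⟩)
      have h2 : ((a ^ i : X) : X ⧸ Subgroup.zpowers z) = ((m : X) : X ⧸ Subgroup.zpowers z) := by
        have h3 := congrArg Subtype.val hi
        rw [Subgroup.coe_zpow, ← ha] at h3
        exact h3
      exact ⟨i, (a ^ i)⁻¹ * m, QuotientGroup.eq.1 h2, by group⟩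
    have hMab : ∀ u ∈ M, ∀ v ∈ M, u * v = v * u := by
      intro u hu v hv
      obtain ⟨i, ζ, hζ, rfl⟩ := hMs u hu
      obtain ⟨j, ξ, hξ, rfl⟩ := hMs v hv
      have h1 : ∀ g : X, g * ζ = ζ * g := Subgroup.mem_center_iff.1 (hNle hζ)
      have h2 : ∀ g : X, g * ξ = ξ * g := Subgroup.mem_center_iff.1 (hNle hξ)
      have h3 : a ^ i * a ^ j = a ^ j * a ^ i := by
        rw [← zpow_add, ← zpow_add, add_comm]
      calc a ^ i * ζ * (a ^ j * ξ) = a ^ i * (ζ * a ^ j) * ξ := by group
        _ = a ^ i * (a ^ j * ζ) * ξ := by rw [h1 (a ^ j)]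
        _ = (a ^ i * a ^ j) * (ζ * ξ) := by group
        _ = (a ^ j * a ^ i) * (ξ * ζ) := by rw [h3, h1 ξ]
        _ = a ^ j * (a ^ i * ξ) * ζ := by group
        _ = a ^ j * (ξ * a ^ i) * ζ := by rw [h2 (a ^ i)]
        _ = a ^ j * ξ * (a ^ i * ζ) := by group
    obtain ⟨hZ, hZc⟩ := center_facts (n + 1) hn1 hX hidx M hMi hMab
    have hNZ : Subgroup.zpowers z = Subgroup.center X :=
      Subgroup.eq_of_le_of_card_ge hNle (by rw [hNc, hZ])
    have hclass : Group.nilpotencyClass X = n + 1 - 1 := by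
      haveI : Nontrivial X := by
        rw [← Finite.one_lt_card_iff_nontrivial, hX]
        exact Nat.one_lt_two_pow (by omega)
      have hqc' : Nat.card (X ⧸ Subgroup.center X) = 2 ^ n := card_quot _ hZ n hX
      have hqi' : (commutator (X ⧸ Subgroup.center X)).index = 4 := by
        rw [commutator_quot_index _ hZc, hidx]
      rw [Group.nilpotencyClass_eq_quotient_center_plus_one,
        (ih (X ⧸ Subgroup.center X) hqc' hqi').2.2.2]
      omega
    have hcyc : ∃ C : Subgroup X, IsCyclic C ∧ C.index = 2 := by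
      by_cases hz : z ∈ Subgroup.zpowers a
      · refine ⟨Subgroup.zpowers a, inferInstance, ?_⟩
        have h1 : Subgroup.zpowers a = M := by
          apply le_antisymm
          · rw [Subgroup.zpowers_le]; exact haM
          · intro m hm
            obtain ⟨i, ζ, hζ, rfl⟩ := hMs m hm
            exact Subgroup.mul_mem _ (Subgroup.zpow_mem_zpowers a i)
              ((Subgroup.zpowers_le.2 hz) hζ)
        rw [h1]; exact hMi
      · exfalso
        have hMtop : M ≠ ⊤ := by
          intro h
          rw [h, Subgroup.index_top] at hMi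
          omega
        obtain ⟨x, hx⟩ : ∃ x, x ∉ M := by
          by_contra hcon
          push Not at hcon
          exact hMtop (Subgroup.eq_top_iff' M |>.2 hcon)
        have hx2 : x ^ 2 ∈ Subgroup.center X := sq_mem_center M hMi hMab x hx
        have hax : a * x ∉ M := fun h => hx ((Subgroup.mul_mem_cancel_left M haM).1 h)
        have hax2 : (a * x) ^ 2 ∈ Subgroup.center X := sq_mem_center M hMi hMab _ hax
        have hζ0 : a * (x * a * x⁻¹) ∈ Subgroup.center X := by
          have h1 : a * (x * a * x⁻¹) = (a * x) ^ 2 * (x ^ 2)⁻¹ := by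
            rw [pow_two, pow_two]; group
          rw [h1]
          exact Subgroup.mul_mem _ hax2 (Subgroup.inv_mem _ hx2)
        have hζ2 : (a * (x * a * x⁻¹)) ^ 2 = 1 := by
          have h1 := pow_card_eq_one' (G := Subgroup.center X) (x := ⟨_, hζ0⟩)
          rw [hZ] at h1
          exact congrArg Subtype.val h1
        have hconj : x * a * x⁻¹ = a⁻¹ * (a * (x * a * x⁻¹)) := by group
        -- the order of `a`
        have hCbcard : Nat.card Cb * 2 = 2 ^ n := by
          have h1 := Subgroup.card_mul_index Cb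
          rw [hCbi, hqc] at h1
          exact h1
        have hogb : orderOf ((a : X) : X ⧸ Subgroup.zpowers z) = 2 ^ (n - 1) := by
          rw [ha, Subgroup.orderOf_coe, orderOf_eq_card_of_forall_mem_zpowers hgb]
          have h1 : 2 ^ n = 2 ^ (n - 1) * 2 := by
            rw [← pow_succ]; congr 1; omega
          omega
        have hoa : orderOf a = 2 ^ (n - 1) := by
          apply Nat.dvd_antisymm
          · apply orderOf_dvd_of_pow_eq_one
            have h1 : ((a ^ 2 ^ (n - 1) : X) : X ⧸ Subgroup.zpowers z) = 1 := by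
              rw [QuotientGroup.mk_pow, ← hogb, pow_orderOf_eq_one]
            have h2 : a ^ 2 ^ (n - 1) ∈ Subgroup.zpowers z := (QuotientGroup.eq_one_iff _).1 h1
            rcases mem_zpowers_two hzo h2 with h3 | h3
            · exact h3
            · exact absurd (h3 ▸ Subgroup.pow_mem _ (Subgroup.mem_zpowers a) _) hz
          · rw [← hogb]
            apply orderOf_dvd_of_pow_eq_one
            rw [← QuotientGroup.mk_pow, pow_orderOf_eq_one]
            rfl
        have hu2 : (a ^ 2 ^ (n - 2)) ^ 2 = 1 := by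
          rw [← pow_mul, ← pow_succ, show n - 2 + 1 = n - 1 by omega, ← hoa]
          exact pow_orderOf_eq_one a
        have hu1 : a ^ 2 ^ (n - 2) ≠ 1 := by
          intro h
          have h1 := orderOf_dvd_of_pow_eq_one h
          rw [hoa] at h1
          have h2 := Nat.le_of_dvd (by positivity) h1
          have h3 : 2 ^ (n - 2) < 2 ^ (n - 1) := Nat.pow_lt_pow_right (by norm_num) (by omega)
          omega
        have hxu : x * a ^ 2 ^ (n - 2) * x⁻¹ = a ^ 2 ^ (n - 2) := by
          have hcm : Commute a⁻¹ (a * (x * a * x⁻¹)) :=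
            (Subgroup.mem_center_iff.1 hζ0 a⁻¹)
          have h1 : (a * (x * a * x⁻¹)) ^ 2 ^ (n - 2) = 1 := by
            have h2 : 2 ^ (n - 2) = 2 * 2 ^ (n - 3) := by
              rw [← pow_succ']; congr 1; omega
            rw [h2, pow_mul, hζ2, one_pow]
          rw [← conj_pow, hconj, hcm.mul_pow, h1, mul_one, inv_pow]
          exact inv_eq_of_mul_eq_one_left (by rw [← pow_two]; exact hu2)
        have huc : a ^ 2 ^ (n - 2) ∈ Subgroup.center X :=
          mem_center_of_comm M hMi hMab x hx _ (Subgroup.pow_mem _ haM _)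
            (mul_inv_eq_iff_eq_mul.1 hxu).symm
        rw [← hNZ] at huc
        rcases mem_zpowers_two hzo huc with h3 | h3
        · exact hu1 h3
        · exact hz (h3 ▸ Subgroup.pow_mem _ (Subgroup.mem_zpowers a) _)
    exact ⟨hcyc, hZ, hZc, hclass⟩

section classbound

theorem card_center_pow {Y : Type*} [Group Y] [Finite Y] (m : ℕ) (hm : 1 ≤ m)
    (hY : Nat.card Y = 2 ^ m) : ∃ k, 1 ≤ k ∧ k ≤ m ∧ Nat.card (Subgroup.center Y) = 2 ^ k ∧
      Nat.card (Y ⧸ Subgroup.center Y) = 2 ^ (m - k) := by
  haveI : Fact (Nat.Prime 2) := ⟨Nat.prime_two⟩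
  obtain ⟨k, hk0, hk⟩ := IsPGroup.card_center_eq_prime_pow hY (by omega)
  have hdvd : 2 ^ k ∣ 2 ^ m := by
    rw [← hk, ← hY]; exact Subgroup.card_subgroup_dvd_card _
  have hkm : k ≤ m := (Nat.pow_dvd_pow_iff_le_right (by norm_num)).1 hdvd
  refine ⟨k, hk0, hkm, hk, ?_⟩
  have h1 := Subgroup.card_eq_card_quotient_mul_card_subgroup (Subgroup.center Y)
  rw [hY, hk] at h1
  have h2 : (2 : ℕ) ^ m = 2 ^ (m - k) * 2 ^ k := by
    rw [← pow_add]; congr 1; omega
  rw [h2] at h1
  exact (Nat.eq_of_mul_eq_mul_right (by positivity) h1).symm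

theorem comm_of_quot_center_small {Y : Type*} [Group Y] [Finite Y] (j : ℕ) (hj : j ≤ 1)
    (h : Nat.card (Y ⧸ Subgroup.center Y) = 2 ^ j) : IsMulCommutative Y := by
  haveI : IsCyclic (Y ⧸ Subgroup.center Y) := by
    interval_cases j
    · haveI : Subsingleton (Y ⧸ Subgroup.center Y) :=
        (Nat.card_eq_one_iff_unique.1 (by simpa using h)).1
      infer_instance
    · haveI : Fact (Nat.Prime 2) := ⟨Nat.prime_two⟩
      exact isCyclic_of_prime_card (p := 2) (by simpa using h)
  exact isMulCommutative_of_isCyclic_quotient_center_self Y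

theorem class_le : ∀ (m : ℕ) (Y : Type u) [Group Y] [Finite Y], 2 ≤ m → Nat.card Y = 2 ^ m →
    Group.nilpotencyClass Y ≤ m - 1 := by
  intro m
  induction m using Nat.strong_induction_on with
  | _ m ih =>
    intro Y _ _ hm hY
    haveI : Fact (Nat.Prime 2) := ⟨Nat.prime_two⟩
    have hP : IsPGroup 2 Y := IsPGroup.of_card hY
    haveI : Group.IsNilpotent Y := hP.isNilpotent
    obtain ⟨k, hk1, hkm, hZ, hq⟩ := card_center_pow m (by omega) hY
    by_cases h2 : 2 ≤ m - k
    · have h3 := ih (m - k) (by omega) (Y ⧸ Subgroup.center Y) h2 hq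
      rw [Group.nilpotencyClass_quotient_center] at h3
      omega
    · have hc := comm_of_quot_center_small (m - k) (by omega) hq
      have h3 := Group.IsNilpotent.nilpotencyClass_le_one_iff.2 hc
      omega

theorem index_commutator_of_class : ∀ (n : ℕ), 2 ≤ n → ∀ (X : Type u) [Group X] [Finite X],
    Nat.card X = 2 ^ n → Group.nilpotencyClass X = n - 1 → (commutator X).index = 4 := by
  intro n hn
  induction n, hn using Nat.le_induction with
  | base =>
    intro X _ _ hX hc
    haveI : Fact (Nat.Prime 2) := ⟨Nat.prime_two⟩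
    have hcomm : IsMulCommutative X := IsPGroup.isMulCommutative_of_card_eq_prime_sq (p := 2) hX
    rw [(commutator_eq_bot_iff X).2 hcomm, Subgroup.index_bot, hX]
    norm_num
  | succ n hn ih =>
    intro X _ _ hX hc
    haveI : Fact (Nat.Prime 2) := ⟨Nat.prime_two⟩
    have hP : IsPGroup 2 X := IsPGroup.of_card hX
    haveI : Group.IsNilpotent X := hP.isNilpotent
    obtain ⟨k, hk1, hkm, hZ, hq⟩ := card_center_pow (n + 1) (by omega) hX
    have hcq : Group.nilpotencyClass (X ⧸ Subgroup.center X) = n - 1 := by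
      rw [Group.nilpotencyClass_quotient_center, hc]
      omega
    have hnc : ¬ IsMulCommutative X := by
      intro h
      have h1 := Group.IsNilpotent.nilpotencyClass_le_one_iff.2 h
      omega
    have hk : k = 1 := by
      by_contra hk'
      by_cases h2 : 2 ≤ n + 1 - k
      · have h3 := class_le (n + 1 - k) (X ⧸ Subgroup.center X) h2 hq
        omega
      · exact hnc (comm_of_quot_center_small (n + 1 - k) (by omega) hq)
    subst hk
    have hq' : Nat.card (X ⧸ Subgroup.center X) = 2 ^ n := by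
      rw [hq]; congr 1
    have h4 := ih (X ⧸ Subgroup.center X) hq' hcq
    have hne : commutator X ≠ ⊥ := fun h => hnc ((commutator_eq_bot_iff X).1 h)
    obtain ⟨z, hzc, hzz, hzo⟩ := exists_central_invol (n + 1) hX hne
    have hZc : Subgroup.center X ≤ commutator X := by
      have h5 : Subgroup.zpowers z = Subgroup.center X := by
        apply Subgroup.eq_of_le_of_card_ge
        · rw [Subgroup.zpowers_le]; exact hzz
        · rw [Nat.card_zpowers, hzo, hZ]; norm_num
      rw [← h5, Subgroup.zpowers_le]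
      exact hzc
    rw [← commutator_quot_index _ hZc]
    exact h4

end classbound

section consequences

variable {X : Type u} [Group X] [Finite X]

/-- `X / X'` is a Klein four-group when `X'` has index 4 in a 2-group of order at least 8. -/
theorem kleinFour_of_index (n : ℕ) (hn : 3 ≤ n) (hX : Nat.card X = 2 ^ n)
    (hidx : (commutator X).index = 4) : IsKleinFour (X ⧸ commutator X) := by
  obtain ⟨⟨C, hCc, hCi⟩, hZ, hZc, -⟩ := taussky n hn X hX hidx
  have hCab : ∀ a ∈ C, ∀ b ∈ C, a * b = b * a := by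
    intro a ha b hb
    have h1 := (IsCyclic.isMulCommutative (α := C)).is_comm.comm ⟨a, ha⟩ ⟨b, hb⟩
    exact congrArg Subtype.val h1
  haveI hCn : C.Normal := Subgroup.normal_of_index_eq_two hCi
  have hle : commutator X ≤ C := by
    rw [commutator_def, Subgroup.commutator_le]
    intro a _ b _
    rw [commutatorElement_def, mul_assoc, Subgroup.mul_mem_iff_of_index_two hCi,
      Subgroup.mul_mem_iff_of_index_two hCi, Subgroup.mul_mem_iff_of_index_two hCi,
      inv_mem_iff, inv_mem_iff]
  have hrel : ((commutator X).subgroupOf C).index = 2 := by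
    have h1 := Subgroup.relIndex_mul_index hle
    rw [hCi, hidx] at h1
    have h2 : (commutator X).relIndex C = 2 := by omega
    exact h2
  have hsq : ∀ g : X, g ^ 2 ∈ commutator X := by
    intro g
    by_cases hg : g ∈ C
    · have h1 := Subgroup.sq_mem_of_index_two hrel (⟨g, hg⟩ : C)
      rw [Subgroup.mem_subgroupOf] at h1
      exact h1
    · exact hZc (sq_mem_center C hCi hCab g hg)
  have hcard : Nat.card (X ⧸ commutator X) = 4 := by
    rw [← Subgroup.index_eq_card]; exact hidx
  refine ⟨hcard, ?_⟩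
  have hdvd : Monoid.exponent (X ⧸ commutator X) ∣ 2 := by
    apply Monoid.exponent_dvd_of_forall_pow_eq_one
    intro q
    obtain ⟨g, rfl⟩ := QuotientGroup.mk_surjective q
    rw [← QuotientGroup.mk_pow]
    exact (QuotientGroup.eq_one_iff _).2 (hsq g)
  rcases (Nat.dvd_prime Nat.prime_two).1 hdvd with h | h
  · exfalso
    haveI := Monoid.exp_eq_one_iff.1 h
    rw [Nat.card_eq_one_iff_unique.2 ⟨inferInstance, ⟨1⟩⟩] at hcard
    omega
  · exact h

/-- The central quotient of such a group is dihedral. -/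
theorem dihedral_quot (n : ℕ) (hn : 3 ≤ n) (hX : Nat.card X = 2 ^ n)
    (hidx : (commutator X).index = 4) :
    Nonempty (X ⧸ Subgroup.center X ≃* DihedralGroup (2 ^ (n - 2))) := by
  obtain ⟨⟨C, hCc, hCi⟩, hZ, hZc, -⟩ := taussky n hn X hX hidx
  have hCab : ∀ a ∈ C, ∀ b ∈ C, a * b = b * a := by
    intro a ha b hb
    have h1 := (IsCyclic.isMulCommutative (α := C)).is_comm.comm ⟨a, ha⟩ ⟨b, hb⟩
    exact congrArg Subtype.val h1
  haveI hCn : C.Normal := Subgroup.normal_of_index_eq_two hCi
  have hnc := not_comm n hn hX hidx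
  have hZC : Subgroup.center X ≤ C := center_le C hCi hCab hnc
  obtain ⟨g, hg⟩ := hCc.exists_generator
  have hCz : C = Subgroup.zpowers (g : X) := by
    apply le_antisymm
    · intro y hy
      obtain ⟨k, hk⟩ := Subgroup.mem_zpowers_iff.1 (hg ⟨y, hy⟩)
      refine Subgroup.mem_zpowers_iff.2 ⟨k, ?_⟩
      have h1 := congrArg Subtype.val hk
      rwa [Subgroup.coe_zpow] at h1
    · rw [Subgroup.zpowers_le]; exact g.2
  have hCtop : C ≠ ⊤ := by
    intro h
    rw [h, Subgroup.index_top] at hCi
    omega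
  obtain ⟨x, hx⟩ : ∃ x, x ∉ C := by
    by_contra hcon
    push Not at hcon
    exact hCtop (Subgroup.eq_top_iff' C |>.2 hcon)
  have hx2 := sq_mem_center C hCi hCab x hx
  have hcx : (g : X) * x ∉ C := fun h => hx ((Subgroup.mul_mem_cancel_left C g.2).1 h)
  have hcx2 := sq_mem_center C hCi hCab _ hcx
  have hζ : (g : X) * (x * g * x⁻¹) ∈ Subgroup.center X := by
    have h1 : (g : X) * (x * g * x⁻¹) = ((g : X) * x) ^ 2 * (x ^ 2)⁻¹ := by
      rw [pow_two, pow_two]; group
    rw [h1]
    exact Subgroup.mul_mem _ hcx2 (Subgroup.inv_mem _ hx2)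
  have hq : Nat.card (X ⧸ Subgroup.center X) = 2 ^ (n - 1) := by
    obtain ⟨m, rfl⟩ : ∃ m, n = m + 1 := ⟨n - 1, by omega⟩
    exact card_quot _ hZ m hX
  apply Lib.Helper18.DihedralEquiv.dihedral_equiv (2 ^ (n - 2)) (by positivity)
    (((g : X) : X) : X ⧸ Subgroup.center X) ((x : X) : X ⧸ Subgroup.center X)
  · rw [← Nat.card_zpowers]
    have h1 : Subgroup.zpowers (((g : X) : X) : X ⧸ Subgroup.center X)
        = C.map (QuotientGroup.mk' (Subgroup.center X)) := by
      conv_rhs => rw [hCz]
      rw [MonoidHom.map_zpowers]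
      rfl
    rw [h1]
    have h2 : (C.map (QuotientGroup.mk' (Subgroup.center X))).index = 2 := by
      rw [Subgroup.index_map_eq _ (QuotientGroup.mk'_surjective _)
        (by rw [QuotientGroup.ker_mk']; exact hZC), hCi]
    have h3 := Subgroup.card_mul_index (C.map (QuotientGroup.mk' (Subgroup.center X)))
    rw [h2, hq] at h3
    have h4 : 2 ^ (n - 1) = 2 ^ (n - 2) * 2 := by
      rw [← pow_succ]; congr 1; omega
    omega
  · rw [← QuotientGroup.mk_pow]
    exact (QuotientGroup.eq_one_iff _).2 hx2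
  · rw [eq_inv_iff_mul_eq_one]
    have h1 : ((x * (g : X) * x⁻¹ * (g : X) : X) : X ⧸ Subgroup.center X) = 1 := by
      rw [QuotientGroup.eq_one_iff]
      have hcomm : x * (g : X) * x⁻¹ * g = g * (x * g * x⁻¹) :=
        hCab _ (hCn.conj_mem _ g.2 x) _ g.2
      rw [hcomm]
      exact hζ
    exact h1
  · intro h
    obtain ⟨k, hk⟩ := Subgroup.mem_zpowers_iff.1 h
    have h1 : (((g : X) ^ k : X) : X ⧸ Subgroup.center X)
        = ((x : X) : X ⧸ Subgroup.center X) := hk
    have h2 := hZC (QuotientGroup.eq.1 h1)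
    apply hx
    have h3 : x = (g : X) ^ k * (((g : X) ^ k)⁻¹ * x) := by group
    rw [h3]
    exact C.mul_mem (C.zpow_mem g.2 k) h2
  · rw [hq, ← pow_succ']
    congr 1
    omega

end consequences

end Cfsg.Agent.Lib.Lead.MaxClass2
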