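import Mathlib
import Cfsg.Agent.S0043
import Cfsg.Agent.Lib.Helper4.MinNormal
import Cfsg.Agent.Lib.Helper4.PSolv

/-!
# Finite solvable groups are `p`-solvable (in the sense of `Cfsg.IsPSolvable`)

* `isPSolvable_extension`: if `M` is a normal `p`-subgroup or `p'`-subgroup of the finite group
  `G` and `G ⧸ M` is `p`-solvable, then `G` is `p`-solvable.
* `isPSolvable_of_isSolvable`: a finite solvable group is `p`-solvable for every prime `p`.
-/

set_option autoImplicit false

namespace Cfsg.Agent.Lib.Lead.PSolvOfSolv

open Cfsg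

universe u

theorem isPSolvable_extension {G : Type*} [Group G] [Finite G] {p : ℕ} [Fact p.Prime]
    (M : Subgroup G) [M.Normal]
    (hM : (∃ m : ℕ, Nat.card M = p ^ m) ∨ (Nat.card M).Coprime p)
    (hQ : IsPSolvable p (G ⧸ M)) : IsPSolvable p G := by
  obtain ⟨n, K, k0, klast, kmono, knorm, kfac⟩ := hQ
  refine ⟨n + 1, Fin.cons ⊥ (fun i => (K i).comap (QuotientGroup.mk' M)), ?_, ?_, ?_, ?_, ?_⟩
  · rfl
  · rw [← Fin.succ_last, Fin.cons_succ, klast, Subgroup.comap_top]
  · intro i j hij
    cases i using Fin.cases with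
    | zero => rw [Fin.cons_zero]; exact bot_le
    | succ i' =>
      cases j using Fin.cases with
      | zero => exact absurd (Fin.le_zero_iff.mp hij) (Fin.succ_ne_zero i')
      | succ j' =>
        rw [Fin.cons_succ, Fin.cons_succ]
        exact Subgroup.comap_mono (kmono (Fin.succ_le_succ_iff.mp hij))
  · intro i
    cases i using Fin.cases with
    | zero => rw [Fin.cons_zero]; infer_instance
    | succ i' => rw [Fin.cons_succ]; exact (knorm i').comap _
  · intro i
    cases i using Fin.cases with
    | zero =>
      have h1 : (Fin.cons ⊥ (fun i => (K i).comap (QuotientGroup.mk' M)) :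
          Fin (n + 1 + 1) → Subgroup G) (Fin.castSucc 0) = ⊥ := rfl
      have h2 : (Fin.cons ⊥ (fun i => (K i).comap (QuotientGroup.mk' M)) :
          Fin (n + 1 + 1) → Subgroup G) (Fin.succ 0) = M := by
        rw [Fin.cons_succ, k0]
        exact (QuotientGroup.mk' M).comap_bot.trans (QuotientGroup.ker_mk' M)
      rw [h1, h2, Subgroup.relIndex_bot_left]
      exact hM
    | succ j =>
      have h1 : (Fin.cons ⊥ (fun i => (K i).comap (QuotientGroup.mk' M)) :
          Fin (n + 1 + 1) → Subgroup G) (Fin.castSucc (Fin.succ j)) =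
          (K j.castSucc).comap (QuotientGroup.mk' M) := by
        rw [← Fin.succ_castSucc, Fin.cons_succ]
      have h2 : (Fin.cons ⊥ (fun i => (K i).comap (QuotientGroup.mk' M)) :
          Fin (n + 1 + 1) → Subgroup G) (Fin.succ (Fin.succ j)) =
          (K j.succ).comap (QuotientGroup.mk' M) := by
        rw [Fin.cons_succ]
      rw [h1, h2, Subgroup.relIndex_comap,
        Subgroup.map_comap_eq_self_of_surjective (QuotientGroup.mk'_surjective M)]
      exact kfac j

theorem isPSolvable_aux (p : ℕ) [Fact p.Prime] : ∀ (n : ℕ) (G : Type u) [Group G] [Finite G]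
    [Group.IsSolvable G], Nat.card G = n → IsPSolvable p G := by
  intro n
  induction n using Nat.strong_induction_on with
  | _ n ih =>
    intro G _ _ _ hcard
    by_cases htriv : Subsingleton G
    · refine ⟨0, fun _ => ⊥, rfl, Subsingleton.elim _ _, monotone_const,
        fun _ => inferInstance, fun i => i.elim0⟩
    · have hnt : Nontrivial G := not_subsingleton_iff_nontrivial.mp htriv
      obtain ⟨M, hMn, hMne, hMmin⟩ := Cfsg.Agent.Lib.Helper4.MinNormal.exists_minNormal (G := G)
      have := hMn
      obtain ⟨-, q, hq, hqx⟩ := Cfsg.Agent.S0043.result M hMne hMmin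
      have : Fact q.Prime := ⟨hq⟩
      have hMq : IsPGroup q M := by
        intro x
        refine ⟨1, Subtype.ext ?_⟩
        show (x : G) ^ q ^ 1 = 1
        rw [pow_one]; exact hqx x x.2
      obtain ⟨m, hm⟩ := IsPGroup.iff_card.mp hMq
      have hM : (∃ m : ℕ, Nat.card M = p ^ m) ∨ (Nat.card M).Coprime p := by
        by_cases hqp : q = p
        · left; exact ⟨m, by rw [hm, hqp]⟩
        · right
          rw [hm]
          exact Nat.Coprime.pow_left _ ((Nat.coprime_primes hq Fact.out).mpr hqp)
      have hlt : Nat.card (G ⧸ M) < n := by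
        have h1 : Nat.card G = Nat.card (G ⧸ M) * Nat.card M :=
          Subgroup.card_eq_card_quotient_mul_card_subgroup M
        have h2 : 1 < Nat.card M := M.one_lt_card_iff_ne_bot.mpr hMne
        have h3 : 0 < Nat.card (G ⧸ M) := Nat.card_pos
        rw [← hcard, h1]
        nlinarith
      exact isPSolvable_extension M hM (ih _ hlt (G ⧸ M) rfl)

/-- a finite solvable group is `p`-solvable -/
theorem isPSolvable_of_isSolvable {G : Type u} [Group G] [Finite G] [Group.IsSolvable G] (p : ℕ)
    [Fact p.Prime] : IsPSolvable p G :=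
  isPSolvable_aux p _ G rfl

end Cfsg.Agent.Lib.Lead.PSolvOfSolv
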